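import Cfsg.Agent.Lib.Geometry.FormClass
import Cfsg.Agent.Lib.Geometry.SymplecticBasis
import Cfsg.Agent.Lib.Geometry.Symplectic

/-!
# Congruence classes of symmetric and alternating matrices over finite fields
-/

set_option autoImplicit false

namespace CfsgLib.Geometry.GraphPSL

open Matrix QuadraticMap

variable {ι κ : Type} [Fintype ι] [DecidableEq ι] [Fintype κ] [DecidableEq κ] {F : Type*} [Field F]

/-- `J'` is congruent to `J`. -/
def Congr (J J' : Matrix ι ι F) : Prop := ∃ P : GL ι F, (P : Matrix ι ι F)ᵀ * J * (P : Matrix ι ι F) = J'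

theorem Congr.trans {J J' J'' : Matrix ι ι F} (h : Congr J J') (h' : Congr J' J'') : Congr J J'' := by
  obtain ⟨P, hP⟩ := h
  obtain ⟨Q, hQ⟩ := h'
  exact ⟨P * Q, by rw [← hQ, ← hP, Units.val_mul, transpose_mul]; simp only [mul_assoc]⟩

theorem Congr.symm {J J' : Matrix ι ι F} (h : Congr J J') : Congr J' J := by
  obtain ⟨P, hP⟩ := h
  refine ⟨P⁻¹, ?_⟩
  rw [← hP, show ((P⁻¹ : GL ι F) : Matrix ι ι F)ᵀ * ((P : Matrix ι ι F)ᵀ * J * (P : Matrix ι ι F)) *
      ((P⁻¹ : GL ι F) : Matrix ι ι F) = ((P : Matrix ι ι F) * ((P⁻¹ : GL ι F) : Matrix ι ι F))ᵀ * J *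
      ((P : Matrix ι ι F) * ((P⁻¹ : GL ι F) : Matrix ι ι F)) by rw [transpose_mul]; simp only [mul_assoc]]
  simp

/-- A family with invertible Gram matrix is a congruence. -/
theorem congr_of_family {J : Matrix ι ι F} {Γ : Matrix κ κ F} (e : κ ≃ ι) (c : κ → ι → F)
    (hΓ : Γ.det ≠ 0) (h : ∀ i j, c i ⬝ᵥ J *ᵥ c j = Γ i j) : Congr J (Γ.submatrix e.symm e.symm) := by
  classical
  set P : Matrix ι ι F := Matrix.of fun k l => c (e.symm l) k with hP
  have hmul : Pᵀ * J * P = Γ.submatrix e.symm e.symm := by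
    ext k l
    rw [submatrix_apply, ← h, mul_assoc]
    simp only [Matrix.mul_apply, dotProduct, Matrix.mulVec, transpose_apply, hP, of_apply]
  have hdet : P.det ≠ 0 := fun h0 => hΓ (by
    have := congrArg Matrix.det hmul
    rwa [det_mul, det_mul, h0, mul_zero, det_submatrix_equiv_self, eq_comm] at this)
  exact ⟨GeneralLinearGroup.mkOfDetNeZero P hdet, hmul⟩

/-- In odd characteristic a symmetric invertible matrix is determined by the square class of its determinant. -/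
theorem congr_of_disc [Finite F] (h2 : (2 : F) ≠ 0) {J J' : Matrix ι ι F} (hs : Jᵀ = J) (hs' : J'ᵀ = J')
    (hd : J.det ≠ 0) (hd' : J'.det ≠ 0) (hsq : IsSquare (J.det * J'.det)) : Congr J J' := by
  classical
  let b : Module.Basis ι F (ι → F) := Pi.basisFun F ι
  have hpol : ∀ A : Matrix ι ι F, Aᵀ = A →
      ∀ u v, polar (matQuad A) u v = 2 * (u ⬝ᵥ A *ᵥ v) := fun A hA u v => by
    rw [polar_matQuad, hA, add_mulVec, dotProduct_add, two_mul]
  have hgram : ∀ A : Matrix ι ι F, Aᵀ = A →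
      (Matrix.of fun i j => polar (matQuad A) (b i) (b j)) = (2 : F) • A := fun A hA => by
    ext i j
    simp [b, hpol A hA, Pi.basisFun_apply]
  have hnd : ∀ A : Matrix ι ι F, Aᵀ = A → A.det ≠ 0 → (polarBilin (matQuad A)).Nondegenerate := fun A hA hA' => by
    refine nondegenerate_matQuad ?_
    rw [hA, ← two_smul F A, det_smul]
    exact mul_ne_zero (pow_ne_zero _ h2) hA'
  obtain ⟨g, hg⟩ := exists_isometry_of_disc (Q := matQuad J') h2 (matQuad J) (hnd J' hs' hd') (hnd J hs hd) rfl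
    b b (by
      rw [hgram J hs, hgram J' hs', det_smul, det_smul, show ∀ a c : F, 2 ^ Fintype.card ι * a *
        (2 ^ Fintype.card ι * c) = 2 ^ Fintype.card ι * 2 ^ Fintype.card ι * (c * a) from fun a c => by ring]
      exact (isSquare_mul_sq_iff (pow_ne_zero _ h2)).2 hsq)
  set P : Matrix ι ι F := LinearMap.toMatrix' g.toLinearMap with hP
  have hPv : ∀ v, P *ᵥ v = g v := fun v => by
    rw [hP, ← Matrix.toLin'_apply, Matrix.toLin'_toMatrix']; rfl
  have hb : ∀ u v, (g u) ⬝ᵥ J *ᵥ (g v) = u ⬝ᵥ J' *ᵥ v := fun u v => by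
    refine mul_left_cancel₀ h2 ?_
    rw [← hpol J hs, ← hpol J' hs']
    simp only [polar, ← map_add, hg]
  have hmul : Pᵀ * J * P = J' := by
    ext i j
    have := hb (Pi.single i 1) (Pi.single j 1)
    rw [← hPv, ← hPv, dotProduct_mulVec, ← vecMul_transpose, vecMul_vecMul, dotProduct_comm] at this
    rw [Matrix.mul_apply']
    simp [Matrix.row, Matrix.col] at this
    exact (dotProduct_comm _ _).trans this
  have hdet : P.det ≠ 0 := fun h0 => hd' (by
    have := congrArg Matrix.det hmul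
    rwa [det_mul, det_mul, h0, mul_zero, eq_comm] at this)
  exact ⟨GeneralLinearGroup.mkOfDetNeZero P hdet, hmul⟩

/-- The standard alternating matrix. -/
abbrev stdJ (m : ℕ) (F : Type*) [Field F] : Matrix (Fin m ⊕ Fin m) (Fin m ⊕ Fin m) F := Matrix.J (Fin m) F

theorem det_stdJ_ne_zero (m : ℕ) : (stdJ m F).det ≠ 0 :=
  (Matrix.isUnit_det_J (Fin m) F).ne_zero

/-- The bilinear form of a matrix is alternating when the matrix is. -/
theorem isAlt_toBilin' {A : Matrix ι ι F} (hs : Aᵀ = -A) (hd : ∀ i, A i i = 0) :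
    (Matrix.toBilin' A).IsAlt := by
  intro v
  rw [Matrix.toBilin'_apply', dotProduct]
  simp only [mulVec, dotProduct, Finset.mul_sum]
  rw [← Fintype.sum_prod_type']
  refine Finset.sum_ninvolution Prod.swap (fun p => ?_) (fun p hp => ?_) (fun p => Finset.mem_univ _) (fun p => rfl)
  · have := congrFun (congrFun hs p.1) p.2
    simp only [transpose_apply, Matrix.neg_apply] at this
    simp only [Prod.fst_swap, Prod.snd_swap, this]
    ring
  · intro hswap
    obtain ⟨i, j⟩ := p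
    simp only [Prod.swap_prod_mk, Prod.mk.injEq] at hswap
    obtain ⟨rfl, -⟩ := hswap
    simp [hd] at hp

/-- Symplectic basis in matrix form: a family with standard Gram matrix and a basis of the radical. -/
theorem exists_symp_family {A : Matrix ι ι F} (hA : (Matrix.toBilin' A).IsAlt) :
    ∃ (m k : ℕ) (b : Module.Basis ((Fin m ⊕ Fin m) ⊕ Fin k) F (ι → F)),
      Fintype.card ι = 2 * m + k ∧
      (∀ i j, b (Sum.inl i) ⬝ᵥ A *ᵥ b (Sum.inl j) = stdJ m F i j) ∧
      (∀ j, A *ᵥ b (Sum.inr j) = 0) := by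
  obtain ⟨m, k, b, h1, h2, h3, h4⟩ := exists_sympBasis_aux (Module.finrank F (ι → F)) rfl (Matrix.toBilin' A) hA
  let s : Fin m ⊕ Fin m ≃ Fin m ⊕ Fin m := Equiv.sumComm _ _
  refine ⟨m, k, b.reindex (Equiv.sumCongr s (Equiv.refl _)), ?_, ?_, ?_⟩
  · have := Module.finrank_eq_card_basis b
    simp at this
    omega
  · intro i j
    simp only [Module.Basis.reindex_apply, Equiv.sumCongr_symm, Equiv.sumCongr_apply, Sum.map_inl,
      ← Matrix.toBilin'_apply']
    rcases i with i | i <;> rcases j with j | j <;>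
      simp only [s, Equiv.sumComm_symm, Equiv.sumComm_apply, Sum.swap_inl, Sum.swap_inr, stdJ, Matrix.J,
        fromBlocks_apply₁₁, fromBlocks_apply₁₂, fromBlocks_apply₂₁, fromBlocks_apply₂₂, Matrix.zero_apply]
    · exact h3 i j
    · rw [← hA.neg_eq, h1, neg_apply, Matrix.one_apply]
      by_cases hij : i = j <;> simp [hij, eq_comm]
    · rw [h1, Matrix.one_apply]
    · exact h2 i j
  · intro j
    refine dotProduct_eq_zero _ fun v => ?_
    simp only [Module.Basis.reindex_apply, Equiv.sumCongr_symm, Equiv.sumCongr_apply, Sum.map_inr, Equiv.refl_symm,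
      Equiv.refl_apply]
    have := hA.isRefl _ _ (h4 j v)
    rw [Matrix.toBilin'_apply'] at this
    rwa [dotProduct_comm]

/-- Alternating invertible matrices are congruent to the standard one. -/
theorem congr_alt {m : ℕ} {A : Matrix ι ι F} (hs : Aᵀ = -A) (hd : ∀ i, A i i = 0) (hA : A.det ≠ 0)
    (e : Fin m ⊕ Fin m ≃ ι) : Congr A ((stdJ m F).submatrix e.symm e.symm) := by
  obtain ⟨m', k, b, hc, hb, hr⟩ := exists_symp_family (isAlt_toBilin' hs hd)
  have hk : k = 0 := by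
    by_contra hk
    exact b.ne_zero (Sum.inr ⟨0, Nat.pos_of_ne_zero hk⟩) (Matrix.eq_zero_of_mulVec_eq_zero hA (hr _))
  have hm : m' = m := by
    have := Fintype.card_congr e
    simp at this
    omega
  subst hm
  exact congr_of_family e (fun i => b (Sum.inl i)) (det_stdJ_ne_zero m') hb

/-- The `⟨1⟩ ⊕ J` matrix. -/
def oddJ (m : ℕ) (F : Type*) [Field F] : Matrix (Unit ⊕ (Fin m ⊕ Fin m)) (Unit ⊕ (Fin m ⊕ Fin m)) F :=
  fromBlocks 1 0 0 (stdJ m F)

theorem det_oddJ_ne_zero (m : ℕ) : (oddJ m F).det ≠ 0 := by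
  rw [oddJ, det_fromBlocks_zero₁₂, det_one, one_mul]
  exact det_stdJ_ne_zero m

/-- The distinguished non-zero vector. -/
def wVec (m : ℕ) (F : Type*) [Field F] : Fin m ⊕ Fin m → F :=
  fun i => if i = Sum.elim Sum.inl Sum.inl i ∧ Sum.elim Fin.val Fin.val i = 0 then 1 else 0

/-- The non-alternating symmetric matrix in even dimension and characteristic two. -/
def symJ (m : ℕ) (F : Type*) [Field F] : Matrix (Fin m ⊕ Fin m) (Fin m ⊕ Fin m) F :=
  stdJ m F + vecMulVec (stdJ m F *ᵥ wVec m F) (stdJ m F *ᵥ wVec m F)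

theorem wVec_inl {m : ℕ} (hm : 0 < m) : wVec m F (Sum.inl ⟨0, hm⟩) = 1 := by simp [wVec]

theorem wVec_ne_zero {m : ℕ} (hm : 0 < m) : wVec m F ≠ 0 := fun h => by
  have := congrFun h (Sum.inl ⟨0, hm⟩)
  rw [wVec_inl hm] at this
  exact one_ne_zero this

section CharTwo

variable [CharP F 2]

omit [Fintype ι] [DecidableEq ι] in
theorem neg_eq_self' (A : Matrix ι ι F) : -A = A := by ext; exact CharTwo.neg_eq _

/-- The square root of the diagonal of a symmetric matrix in characteristic two. -/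
theorem diag_quad [Finite F] {J : Matrix ι ι F} (hs : Jᵀ = J) :
    ∃ φ : ι → F, ∀ i, J i i = φ i * φ i := by
  haveI : Fact (Nat.Prime 2) := ⟨Nat.prime_two⟩
  choose φ hφ using fun i => (FiniteField.isSquare_of_char_two (ringChar.eq F 2) (J i i))
  exact ⟨φ, hφ⟩

theorem alt_part {J : Matrix ι ι F} (hs : Jᵀ = J) {φ : ι → F} (hφ : ∀ i, J i i = φ i * φ i) :
    (Matrix.toBilin' (J + vecMulVec φ φ)).IsAlt := by
  refine isAlt_toBilin' ?_ fun i => ?_
  · rw [neg_eq_self', transpose_add, hs, transpose_vecMulVec]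
  · simp [vecMulVec_apply, hφ, CharTwo.add_self_eq_zero]

theorem alt_mulVec (J : Matrix ι ι F) (φ x : ι → F) :
    (J + vecMulVec φ φ) *ᵥ x = J *ᵥ x + (φ ⬝ᵥ x) • φ := by
  rw [add_mulVec, vecMulVec_mulVec, op_smul_eq_smul]

/-- Odd dimension, characteristic two. -/
theorem congr_odd [Finite F] {m : ℕ} {J : Matrix ι ι F} (hs : Jᵀ = J) (hJ : J.det ≠ 0)
    (e : Unit ⊕ (Fin m ⊕ Fin m) ≃ ι) : Congr J ((oddJ m F).submatrix e.symm e.symm) := by
  classical
  obtain ⟨φ, hφ⟩ := diag_quad hs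
  have hA := alt_part hs hφ
  obtain ⟨m', k, b, hc, hb, hr⟩ := exists_symp_family hA
  have hcard : Fintype.card ι = 2 * m + 1 := by
    rw [← Fintype.card_congr e]; simp; omega
  have hk : 0 < k := by omega
  set u₀ := b (Sum.inr ⟨0, hk⟩) with hu₀
  have hrad : ∀ j, J *ᵥ b (Sum.inr j) = (φ ⬝ᵥ b (Sum.inr j)) • φ := fun j => by
    have := hr j
    rw [alt_mulVec, add_eq_zero_iff_eq_neg] at this
    rw [this]
    funext i
    exact CharTwo.neg_eq _
  have hk1 : k = 1 := by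
    by_contra hk1
    have hk2 : 1 < k := by omega
    set x := b (Sum.inr ⟨0, hk⟩)
    set y := b (Sum.inr ⟨1, hk2⟩)
    have hz : J *ᵥ ((φ ⬝ᵥ y) • x - (φ ⬝ᵥ x) • y) = 0 := by
      rw [mulVec_sub, mulVec_smul, mulVec_smul, hrad, hrad, smul_smul, smul_smul, mul_comm, sub_self]
    have hz' := Matrix.eq_zero_of_mulVec_eq_zero hJ hz
    have h1 := congrArg b.repr hz'
    have h1x := DFunLike.congr_fun h1 (Sum.inr ⟨0, hk⟩)
    simp [x, y] at h1x
    have hJy : J *ᵥ y = 0 := by rw [hrad, h1x, zero_smul]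
    exact b.ne_zero _ (Matrix.eq_zero_of_mulVec_eq_zero hJ hJy)
  subst hk1
  have hm : m' = m := by omega
  subst hm
  have hc0 : φ ⬝ᵥ u₀ ≠ 0 := fun h => by
    have hJu : J *ᵥ u₀ = 0 := by rw [hu₀, hrad, ← hu₀, h, zero_smul]
    exact b.ne_zero _ (Matrix.eq_zero_of_mulVec_eq_zero hJ hJu)
  set u := (φ ⬝ᵥ u₀)⁻¹ • u₀ with hu
  have hφu : φ ⬝ᵥ u = 1 := by rw [hu, dotProduct_smul, smul_eq_mul, inv_mul_cancel₀ hc0]
  have hJu : J *ᵥ u = φ := by
    rw [hu, mulVec_smul, hu₀, hrad, ← hu₀, smul_smul, inv_mul_cancel₀ hc0, one_smul]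
  let c : Unit ⊕ (Fin m' ⊕ Fin m') → ι → F :=
    Sum.elim (fun _ => u) fun i => b (Sum.inl i) + (φ ⬝ᵥ b (Sum.inl i)) • u
  refine congr_of_family e c (det_oddJ_ne_zero m') ?_
  have hself : ∀ v, J *ᵥ v = (J + vecMulVec φ φ) *ᵥ v + (φ ⬝ᵥ v) • φ := fun v => by
    rw [alt_mulVec, add_assoc, ← two_smul F ((φ ⬝ᵥ v) • φ), CharTwo.two_eq_zero, zero_smul, add_zero]
  have hφc : ∀ i, φ ⬝ᵥ c (Sum.inr i) = 0 := fun i => by
    simp [c, dotProduct_add, dotProduct_smul, hφu, CharTwo.add_self_eq_zero]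
  have hvJu : ∀ v, v ⬝ᵥ J *ᵥ u = φ ⬝ᵥ v := fun v => by rw [hJu, dotProduct_comm]
  have hAu : (J + vecMulVec φ φ) *ᵥ u = 0 := by
    rw [alt_mulVec, hJu, hφu, one_smul, ← two_smul F φ, CharTwo.two_eq_zero, zero_smul]
  intro i j
  rcases i with ⟨⟩ | i <;> rcases j with ⟨⟩ | j <;>
    simp only [oddJ, fromBlocks_apply₁₁, fromBlocks_apply₁₂, fromBlocks_apply₂₁, fromBlocks_apply₂₂,
      Matrix.zero_apply, Matrix.one_apply_eq]
  · show u ⬝ᵥ J *ᵥ u = 1
    rw [hvJu, hφu]
  · show u ⬝ᵥ J *ᵥ c (Sum.inr j) = 0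
    rw [dotProduct_mulVec, ← mulVec_transpose, hs, hJu]
    exact hφc j
  · show c (Sum.inr i) ⬝ᵥ J *ᵥ u = 0
    rw [hvJu]
    exact hφc i
  · rw [hself, hφc, zero_smul, add_zero]
    simp only [c, Sum.elim_inr, mulVec_add, mulVec_smul, hAu, smul_zero, add_zero, add_dotProduct, smul_dotProduct]
    rw [hb, dotProduct_mulVec u, ← mulVec_transpose, transpose_add, hs, transpose_vecMulVec, hAu,
      zero_dotProduct, smul_zero, add_zero]

/-- Even dimension, characteristic two, non-alternating. -/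
theorem congr_sym [Finite F] {m : ℕ} (hm : 0 < m) {J : Matrix ι ι F} (hs : Jᵀ = J) (hJ : J.det ≠ 0)
    (hna : ∃ i, J i i ≠ 0) (e : Fin m ⊕ Fin m ≃ ι) : Congr J ((symJ m F).submatrix e.symm e.symm) := by
  classical
  obtain ⟨φ, hφ⟩ := diag_quad hs
  have hA := alt_part hs hφ
  obtain ⟨m', k, b, hc, hb, hr⟩ := exists_symp_family hA
  have hcard : Fintype.card ι = 2 * m := by
    rw [← Fintype.card_congr e]; simp; omega
  set A := J + vecMulVec φ φ with hAdef
  have hk : k = 0 := by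
    by_contra hk
    have hk1 : k ≠ 1 := by omega
    have hk2 : 1 < k := by omega
    set x := b (Sum.inr ⟨0, by omega⟩)
    set y := b (Sum.inr ⟨1, hk2⟩)
    have hrad : ∀ j, J *ᵥ b (Sum.inr j) = (φ ⬝ᵥ b (Sum.inr j)) • φ := fun j => by
      have := hr j
      rw [alt_mulVec, add_eq_zero_iff_eq_neg] at this
      rw [this]
      funext i
      exact CharTwo.neg_eq _
    have hz : J *ᵥ ((φ ⬝ᵥ y) • x - (φ ⬝ᵥ x) • y) = 0 := by
      rw [mulVec_sub, mulVec_smul, mulVec_smul, hrad, hrad, smul_smul, smul_smul, mul_comm, sub_self]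
    have h1 := congrArg b.repr (Matrix.eq_zero_of_mulVec_eq_zero hJ hz)
    have h1x := DFunLike.congr_fun h1 (Sum.inr ⟨0, by omega⟩)
    simp [x, y] at h1x
    exact b.ne_zero _ (Matrix.eq_zero_of_mulVec_eq_zero hJ (by rw [hrad, h1x, zero_smul]))
  subst hk
  have hm' : m' = m := by omega
  subst hm'
  obtain ⟨P, hP⟩ := congr_of_family e (fun i => b (Sum.inl i)) (det_stdJ_ne_zero m') hb
  have hPdet : (P : Matrix ι ι F).det ≠ 0 := (GeneralLinearGroup.det P).ne_zero
  set φ' : Fin m' ⊕ Fin m' → F := fun i => ((P : Matrix ι ι F)ᵀ *ᵥ φ) (e i) with hφ'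
  have hJ' : (P : Matrix ι ι F)ᵀ * J * (P : Matrix ι ι F) =
      (stdJ m' F + vecMulVec φ' φ').submatrix e.symm e.symm := by
    have h0 : J = A + vecMulVec φ φ := by
      rw [hAdef, add_assoc, ← two_smul F (vecMulVec φ φ), CharTwo.two_eq_zero, zero_smul, add_zero]
    rw [h0, Matrix.mul_add, Matrix.add_mul, hP, mul_vecMulVec, vecMulVec_mul, mulVec_transpose]
    ext i j
    simp [hφ', vecMulVec_apply, mulVec_transpose]
  have hφ0 : φ' ≠ 0 := by
    intro h
    obtain ⟨i, hi⟩ := hna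
    have : (P : Matrix ι ι F)ᵀ *ᵥ φ = 0 := funext fun i => by simpa [hφ'] using congrFun h (e.symm i)
    rw [← transpose_transpose (P : Matrix ι ι F), det_transpose] at hPdet
    have hφz := Matrix.eq_zero_of_mulVec_eq_zero hPdet this
    exact hi (by rw [hφ, hφz]; simp)
  set v := stdJ m' F *ᵥ φ' with hv
  have hJv : stdJ m' F *ᵥ v = φ' := by
    rw [hv, mulVec_mulVec, stdJ, Matrix.J_squared, neg_eq_self', one_mulVec]
  have hv0 : v ≠ 0 := fun h => hφ0 (by rw [← hJv, h, mulVec_zero])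
  obtain ⟨S, hS⟩ := CfsgLib.Geometry.sp_extend m' F (fun _ : Fin 1 => wVec m' F) (fun _ => v)
    ((linearIndependent_subsingleton_index_iff _).2 fun _ => wVec_ne_zero hm)
    ((linearIndependent_subsingleton_index_iff _).2 fun _ => hv0)
    (fun i j => by rw [← sympBilin_apply, ← sympBilin_apply, sympBilin_isAlt m' F _, sympBilin_isAlt m' F _])
  set S' : Matrix (Fin m' ⊕ Fin m') (Fin m' ⊕ Fin m') F := S.1
  have hS' : S'ᵀ * stdJ m' F * S' = stdJ m' F := SymplecticGroup.mem_iff'.1 S.2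
  have hSφ : S'ᵀ *ᵥ φ' = stdJ m' F *ᵥ wVec m' F := by
    rw [← hJv, ← hS 0, mulVec_mulVec, mulVec_mulVec, hS']
  have hsym : S'ᵀ * (stdJ m' F + vecMulVec φ' φ') * S' = symJ m' F := by
    rw [Matrix.mul_add, Matrix.add_mul, hS', mul_vecMulVec, vecMulVec_mul, ← mulVec_transpose, hSφ]
    rfl
  have hdet : (S'.submatrix e.symm e.symm).det ≠ 0 := by
    rw [det_submatrix_equiv_self]
    exact (SymplecticGroup.symplectic_det S.2).ne_zero
  refine Congr.trans ⟨P, hJ'⟩ ⟨GeneralLinearGroup.mkOfDetNeZero _ hdet, ?_⟩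
  show (S'.submatrix e.symm e.symm)ᵀ * _ * S'.submatrix e.symm e.symm = _
  rw [transpose_submatrix, submatrix_mul_equiv, submatrix_mul_equiv, hsym]

end CharTwo

end CfsgLib.Geometry.GraphPSL
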