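import Cfsg.Agent.Lib.Geometry.GraphPSL.Std
import Cfsg.Agent.Lib.KnownB.PSLAut.Out

/-!
# The classes of involutory graph automorphisms of `PSL_n`
-/

set_option autoImplicit false

namespace CfsgLib.Geometry.GraphPSL

open Matrix CfsgLib.KnownB.PSLAut

variable {κ : Type} [Fintype κ] [DecidableEq κ] {F : Type*} [Field F] {n : ℕ}

local notation "PSLn" => Matrix.ProjectiveSpecialLinearGroup (Fin n) F
local notation "Mn" => Matrix (Fin n) (Fin n) F

/-- The inner-diagonal centraliser of an automorphism. -/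
abbrev CC (x : MulAut PSLn) : Subgroup (MulAut PSLn) := Cfsg.inndiagPSL n F ⊓ Subgroup.centralizer {x}

theorem projQuot_eq {H H' : Subgroup (GL κ F)} (h : H = H') :
    Nonempty (Cfsg.projQuot H ≃* Cfsg.projQuot H') := by
  subst h
  exact ⟨MulEquiv.refl _⟩

/-- A standard form matrix carried to `Fin n`. -/
noncomputable def stdK (Γ : Matrix κ κ F) (e : κ ≃ Fin n) (h : Γ.det ≠ 0) : GL (Fin n) F :=
  GeneralLinearGroup.mkOfDetNeZero (Γ.submatrix e.symm e.symm) (by rw [det_submatrix_equiv_self]; exact h)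

theorem stdK_val (Γ : Matrix κ κ F) (e : κ ≃ Fin n) (h : Γ.det ≠ 0) :
    ((stdK Γ e h : GL (Fin n) F) : Mn) = Γ.submatrix e.symm e.symm := rfl

theorem stdK_transpose {Γ : Matrix κ κ F} (e : κ ≃ Fin n) (h : Γ.det ≠ 0) {ε : F} (hε : Γᵀ = ε • Γ) :
    ((stdK Γ e h : GL (Fin n) F) : Mn)ᵀ = ε • ((stdK Γ e h : GL (Fin n) F) : Mn) := by
  rw [stdK_val, transpose_submatrix, hε]
  rfl

theorem conj_symm {x y : MulAut PSLn} (h : Cfsg.IsConjUnder (Cfsg.inndiagPSL n F) x y) :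
    Cfsg.IsConjUnder (Cfsg.inndiagPSL n F) y x := by
  obtain ⟨a, ha, rfl⟩ := h
  exact ⟨a⁻¹, inv_mem ha, by group⟩

theorem conj_trans {x y z : MulAut PSLn} (h : Cfsg.IsConjUnder (Cfsg.inndiagPSL n F) x y)
    (h' : Cfsg.IsConjUnder (Cfsg.inndiagPSL n F) y z) : Cfsg.IsConjUnder (Cfsg.inndiagPSL n F) x z := by
  obtain ⟨a, ha, rfl⟩ := h
  obtain ⟨b, hb, rfl⟩ := h'
  exact ⟨b * a, mul_mem hb ha, by group⟩

theorem cent_of_conj [Finite F] (hn : 2 ≤ n) {x y : MulAut PSLn}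
    (h : Cfsg.IsConjUnder (Cfsg.inndiagPSL n F) x y) : Nonempty (↥(CC x) ≃* ↥(CC y)) := by
  haveI : (Cfsg.inndiagPSL n F).Normal := by rw [inndiagPSL_eq]; exact range_δ_normal hn
  obtain ⟨a, -, rfl⟩ := h
  exact centralizer_conj (Cfsg.inndiagPSL n F) x a

theorem conj_of_congr (hn : 2 ≤ n) {K K' : GL (Fin n) F} {c : F} (hc : c ≠ 0)
    (h : Congr (c • (K' : Mn)) (K : Mn)) : Cfsg.IsConjUnder (Cfsg.inndiagPSL n F) (gaut K) (gaut K') := by
  obtain ⟨P, hP⟩ := h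
  exact (isConjUnder_gaut_iff hn K K').2 ⟨P, c, hc, by rw [← hP, Matrix.mul_smul, Matrix.smul_mul]⟩

theorem cent_std (hn : 2 ≤ n) (Γ : Matrix κ κ F) (e : κ ≃ Fin n) (h : Γ.det ≠ 0) :
    Nonempty (↥(CC (gaut (stdK Γ e h))) ≃* Cfsg.projQuot (simJ Γ)) := by
  obtain ⟨f⟩ := centralizer_gaut hn (stdK Γ e h)
  obtain ⟨g⟩ := projQuot_reindex e Γ
  exact ⟨f.trans g.symm⟩

theorem congr_stdK_of_disc [Finite F] (h2 : (2 : F) ≠ 0) {K : GL (Fin n) F} (hK : (K : Mn)ᵀ = (K : Mn))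
    {Γ : Matrix κ κ F} (e : κ ≃ Fin n) (hΓ : Γ.det ≠ 0) (hΓs : Γᵀ = Γ) {c : F} (hc : c ≠ 0)
    (hsq : IsSquare (c ^ n * Γ.det * (K : Mn).det)) :
    Congr (c • ((stdK Γ e hΓ : GL (Fin n) F) : Mn)) (K : Mn) := by
  refine congr_of_disc h2 ?_ hK ?_ (GeneralLinearGroup.det K).ne_zero ?_
  · rw [transpose_smul, stdK_transpose e hΓ (ε := 1) (by rw [one_smul, hΓs]), one_smul]
  · rw [stdK_val, det_smul, det_submatrix_equiv_self]; exact mul_ne_zero (pow_ne_zero _ hc) hΓ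
  · rw [stdK_val, det_smul, det_submatrix_equiv_self, Fintype.card_fin]; exact hsq

theorem not_skew_odd (h2 : (2 : F) ≠ 0) (hn : Odd n) (K : GL (Fin n) F) : (K : Mn)ᵀ ≠ -(K : Mn) := by
  intro h
  have h1 := congrArg Matrix.det h
  rw [det_transpose, det_neg, Fintype.card_fin, hn.neg_one_pow, neg_one_mul, eq_neg_iff_add_eq_zero, ← two_mul]
    at h1
  exact (GeneralLinearGroup.det K).ne_zero ((mul_eq_zero.1 h1).resolve_left h2)

theorem charTwo_of (h2 : (2 : F) = 0) : CharP F 2 := CharTwo.of_one_ne_zero_of_two_eq_zero one_ne_zero h2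

theorem sym_of_charTwo [CharP F 2] {K : GL (Fin n) F} (h : (K : Mn)ᵀ = (K : Mn) ∨ (K : Mn)ᵀ = -(K : Mn)) :
    (K : Mn)ᵀ = (K : Mn) := by
  rcases h with h | h
  · exact h
  · rw [h, neg_eq_self']

/-- Odd dimension: one class, with centraliser `PGO`. -/
theorem odd_main [Finite F] (hn : 3 ≤ n) {m : ℕ} (hnm : n = 2 * m + 1) :
    ∃ γ₀ : MulAut PSLn, Nonempty (↥(CC γ₀) ≃* Cfsg.PGO F (Cfsg.quadFormOdd m F)) ∧
      ∀ γ, Cfsg.IsGraphAutClassPSL γ → orderOf γ = 2 → Cfsg.IsConjUnder (Cfsg.inndiagPSL n F) γ γ₀ := by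
  classical
  let e : Unit ⊕ (Fin m ⊕ Fin m) ≃ Fin n := Fintype.equivFinOfCardEq (by simp; omega)
  by_cases h2 : (2 : F) = 0
  · haveI := charTwo_of h2
    refine ⟨gaut (stdK (oddJ m F) e (det_oddJ_ne_zero m)), ?_, fun γ hγ hγ2 => ?_⟩
    · obtain ⟨f⟩ := cent_std (F := F) (n := n) (by omega) (oddJ m F) e (det_oddJ_ne_zero m)
      obtain ⟨g⟩ := projQuot_simJ (F := F) (Γ := oddJ m F) fun h => det_oddJ_ne_zero m (F := F) (by
        rw [h]; exact det_zero)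
      obtain ⟨i⟩ := isoJ_odd (F := F) (m := m)
      obtain ⟨j⟩ := CfsgLib.Classical.oddIsometry_equiv_symplectic (F := F) (m := m)
      obtain ⟨k⟩ := PGO_odd (F := F) (m := m)
      exact ⟨f.trans (g.symm.trans (i.trans (j.symm.trans k)))⟩
    · obtain ⟨K, rfl, hK⟩ := exists_gaut hn hγ hγ2
      refine conj_of_congr (by omega) one_ne_zero ?_
      rw [one_smul, stdK_val]
      exact (congr_odd (sym_of_charTwo hK) (GeneralLinearGroup.det K).ne_zero e).symm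
  · set G := oddMat m F + (oddMat m F)ᵀ with hG
    have hGs : Gᵀ = G := by rw [hG, transpose_add, transpose_transpose, add_comm]
    have hGd : G.det ≠ 0 := by
      rw [hG, det_odd_gram]; exact mul_ne_zero h2 (pow_ne_zero _ (neg_ne_zero.2 one_ne_zero))
    refine ⟨gaut (stdK G e hGd), ?_, fun γ hγ hγ2 => ?_⟩
    · obtain ⟨f⟩ := cent_std (F := F) (n := n) (by omega) G e hGd
      obtain ⟨g⟩ := projQuot_eq (quadSim_eq h2 (oddMat m F) (coe_matQuad_odd m)).symm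
      exact ⟨f.trans g⟩
    · obtain ⟨K, rfl, hK⟩ := exists_gaut hn hγ hγ2
      have hKs := hK.resolve_right (not_skew_odd h2 ⟨m, hnm⟩ K)
      have hKd : (K : Mn).det ≠ 0 := (GeneralLinearGroup.det K).ne_zero
      refine conj_of_congr (by omega) (mul_ne_zero hKd hGd)
        (congr_stdK_of_disc h2 hKs e hGd hGs (mul_ne_zero hKd hGd) ⟨((K : Mn).det * G.det) ^ (m + 1), ?_⟩)
      subst hnm
      ring

theorem PGO_equiv (h2 : (2 : F) ≠ 0) (M : Matrix κ κ F) {Q : (κ → F) → F} (hQ : ⇑(matQuad M) = Q) :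
    Nonempty (Cfsg.projQuot (simJ (M + Mᵀ)) ≃* Cfsg.PGO F Q) :=
  projQuot_eq (quadSim_eq h2 M hQ).symm

theorem sym_gram (M : Matrix κ κ F) : (M + Mᵀ)ᵀ = M + Mᵀ := by rw [transpose_add, transpose_transpose, add_comm]

/-- Up to scalars congruent matrices share symmetry and square class of determinant. -/
theorem conj_invariants (hn : 2 ≤ n) {K K' : GL (Fin n) F}
    (h : Cfsg.IsConjUnder (Cfsg.inndiagPSL n F) (gaut K) (gaut K')) :
    (∀ ε : F, (K' : Mn)ᵀ = ε • (K' : Mn) → (K : Mn)ᵀ = ε • (K : Mn)) ∧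
      (Even n → IsSquare ((K : Mn).det * (K' : Mn).det)) ∧
      (((Matrix.toBilin' (K' : Mn)).IsAlt) → (Matrix.toBilin' (K : Mn)).IsAlt) := by
  obtain ⟨P, c, hc, hP⟩ := (isConjUnder_gaut_iff hn K K').1 h
  refine ⟨fun ε hε => ?_, fun he => ?_, fun ha v => ?_⟩
  · rw [hP, transpose_smul, transpose_mul, transpose_mul, transpose_transpose, hε, Matrix.smul_mul,
      Matrix.mul_smul, smul_comm, mul_assoc]
  · obtain ⟨j, rfl⟩ := he
    refine ⟨c ^ j * (P : Matrix (Fin (j + j)) (Fin (j + j)) F).det * (K' : Matrix (Fin (j + j)) (Fin (j + j)) F).det, ?_⟩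
    rw [hP, det_smul, det_mul, det_mul, det_transpose, Fintype.card_fin]
    ring
  · have := ha ((P : Mn) *ᵥ v)
    rw [Matrix.toBilin'_apply'] at this ⊢
    rw [hP, smul_mulVec, dotProduct_smul, ← form_mulVec, this, smul_zero]

theorem exists_aniso [Finite F] (h2 : (2 : F) ≠ 0) : ∃ a b : F,
    (∀ z₁ z₂ : F, z₁ ^ 2 + a * z₁ * z₂ + b * z₂ ^ 2 = 0 → z₁ = 0 ∧ z₂ = 0) := by
  haveI := Fintype.ofFinite F
  obtain ⟨ν, hν⟩ := exists_nonsquare_unit (F := F) h2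
  refine ⟨0, -(ν : F), fun z₁ z₂ h => ?_⟩
  by_cases hz : z₂ = 0
  · exact ⟨by simpa [hz] using h, hz⟩
  · exact absurd ⟨z₁ / z₂, by field_simp; linear_combination -h⟩ hν

section EvenOdd

variable {m : ℕ}

/-- The Gram matrix of the plus form. -/
abbrev plusG (m : ℕ) (F : Type*) [Field F] : Matrix (Fin m ⊕ Fin m) (Fin m ⊕ Fin m) F :=
  plusMat m F + (plusMat m F)ᵀ

theorem det_plusG_ne_zero (m : ℕ) : (plusG m F).det ≠ 0 := by
  rw [det_plus_gram]; exact pow_ne_zero _ (neg_ne_zero.2 one_ne_zero)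

/-- The Gram matrix of the minus form. -/
abbrev minusG (m : ℕ) (F : Type*) [Field F] (a b : F) :=
  minusMat (m - 1) F a b + (minusMat (m - 1) F a b)ᵀ

theorem det_minusG_ne_zero [Finite F] (m : ℕ) {a b : F}
    (hab : ∀ z₁ z₂ : F, z₁ ^ 2 + a * z₁ * z₂ + b * z₂ ^ 2 = 0 → z₁ = 0 ∧ z₂ = 0) :
    (minusG m F a b).det ≠ 0 := by
  rw [det_minus_gram]; exact mul_ne_zero (pow_ne_zero _ (neg_ne_zero.2 one_ne_zero)) (binAniso_discr hab).1

theorem disc_ne [Finite F] (h2 : (2 : F) ≠ 0) (hm : 1 ≤ m) {a b : F}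
    (hab : ∀ z₁ z₂ : F, z₁ ^ 2 + a * z₁ * z₂ + b * z₂ ^ 2 = 0 → z₁ = 0 ∧ z₂ = 0) :
    ¬ IsSquare ((plusG m F).det * (minusG m F a b).det) := by
  obtain ⟨j, rfl⟩ : ∃ j, m = j + 1 := ⟨m - 1, by omega⟩
  rw [det_plus_gram, det_minus_gram, Nat.add_sub_cancel,
    show (-1 : F) ^ (j + 1) * ((-1) ^ j * (4 * b - a * a)) = (-1) ^ j * (-1) ^ j * (a * a - 4 * b) by ring,
    ← mul_pow, neg_one_mul, neg_neg, one_pow, one_mul]
  exact (binAniso_discr hab).2 h2

/-- Even dimension, odd characteristic: the three classes. -/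
theorem even_odd_cases [Finite F] (h2 : (2 : F) ≠ 0) (hm : 2 ≤ m) (hnm : n = 2 * m) {a b : F}
    (hab : ∀ z₁ z₂ : F, z₁ ^ 2 + a * z₁ * z₂ + b * z₂ ^ 2 = 0 → z₁ = 0 ∧ z₂ = 0)
    (e : Fin m ⊕ Fin m ≃ Fin n) (e' : (Fin (m - 1) ⊕ Fin (m - 1)) ⊕ Fin 2 ≃ Fin n) (K : GL (Fin n) F) :
    ((K : Mn)ᵀ = -(K : Mn) →
      Cfsg.IsConjUnder (Cfsg.inndiagPSL n F) (gaut (stdK (stdJ m F) e (det_stdJ_ne_zero m))) (gaut K)) ∧
    ((K : Mn)ᵀ = (K : Mn) →
      (IsSquare ((plusG m F).det * (K : Mn).det) →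
        Cfsg.IsConjUnder (Cfsg.inndiagPSL n F) (gaut (stdK (plusG m F) e (det_plusG_ne_zero m))) (gaut K)) ∧
      (¬ IsSquare ((plusG m F).det * (K : Mn).det) →
        Cfsg.IsConjUnder (Cfsg.inndiagPSL n F) (gaut (stdK (minusG m F a b) e' (det_minusG_ne_zero m hab))) (gaut K))) := by
  refine ⟨fun hK => conj_symm (conj_of_congr (by omega) one_ne_zero ?_), fun hK => ⟨fun hs => ?_, fun hs => ?_⟩⟩
  · rw [one_smul, stdK_val]
    refine (congr_alt hK (fun i => ?_) (GeneralLinearGroup.det K).ne_zero e).symm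
    have := congrFun (congrFun hK i) i
    rw [transpose_apply, Matrix.neg_apply, eq_neg_iff_add_eq_zero, ← two_mul] at this
    exact (mul_eq_zero.1 this).resolve_left h2
  · exact conj_symm (conj_of_congr (by omega) one_ne_zero
      (congr_stdK_of_disc h2 hK e _ (sym_gram _) one_ne_zero (by rwa [one_pow, one_mul])))
  · refine conj_symm (conj_of_congr (by omega) one_ne_zero
      (congr_stdK_of_disc h2 hK e' _ (sym_gram _) one_ne_zero ?_))
    rw [one_pow, one_mul]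
    have hd := disc_ne (m := m) h2 (by omega) hab
    have h1 := isSquare_mul_of_not hs hd
    rw [show (plusG m F).det * (K : Mn).det * ((plusG m F).det * (minusG m F a b).det) =
      (plusG m F).det * (plusG m F).det * ((minusG m F a b).det * (K : Mn).det) by ring] at h1
    exact (isSquare_mul_sq_iff (det_plusG_ne_zero m)).1 h1

end EvenOdd

end CfsgLib.Geometry.GraphPSL
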