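import Cfsg.Agent.Lib.KnownB.PSLAut.FieldAut
import Cfsg.Agent.Lib.Geometry.GraphPSL.Congr

/-!
# Involutory graph automorphisms of `PSL_n` and invariant forms
-/

set_option autoImplicit false

namespace CfsgLib.Geometry.GraphPSL

open Matrix CfsgLib.KnownB.PSLAut

variable {ι κ : Type} [Fintype ι] [DecidableEq ι] [Fintype κ] [DecidableEq κ] {F : Type*} [Field F]

/-- The similarities of the bilinear form with matrix `Γ`. -/
def simJ (Γ : Matrix ι ι F) : Subgroup (GL ι F) :=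
  Cfsg.Geo.similarityGroup fun u v => u ⬝ᵥ Γ *ᵥ v

omit [DecidableEq ι] in
theorem form_mulVec (Γ h : Matrix ι ι F) (u v : ι → F) :
    (h *ᵥ u) ⬝ᵥ Γ *ᵥ (h *ᵥ v) = u ⬝ᵥ (hᵀ * Γ * h) *ᵥ v := by
  rw [dotProduct_mulVec, vecMul_mulVec, ← dotProduct_mulVec, mulVec_mulVec]

omit [DecidableEq ι] [Fintype ι] in
theorem ext_form [Fintype ι] [DecidableEq ι] {A B : Matrix ι ι F} (h : ∀ u v, u ⬝ᵥ A *ᵥ v = u ⬝ᵥ B *ᵥ v) : A = B := by
  ext i j
  simpa using h (Pi.single i 1) (Pi.single j 1)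

theorem mem_simJ {Γ : Matrix ι ι F} {h : GL ι F} :
    h ∈ simJ Γ ↔ ∃ c : Fˣ, (h : Matrix ι ι F)ᵀ * Γ * (h : Matrix ι ι F) = (c : F) • Γ := by
  show (∃ c : Fˣ, ∀ u v, ((h : Matrix ι ι F) *ᵥ u) ⬝ᵥ Γ *ᵥ ((h : Matrix ι ι F) *ᵥ v) = (c : F) * (u ⬝ᵥ Γ *ᵥ v)) ↔ _
  refine exists_congr fun c => ?_
  simp only [form_mulVec, ← smul_eq_mul, ← dotProduct_smul, ← smul_mulVec]
  exact ⟨ext_form, fun h u v => by rw [h]⟩

/-- Reindexing invertible matrices. -/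
def glMap (e : κ ≃ ι) : GL κ F ≃* GL ι F :=
  Units.mapEquiv (Matrix.reindexAlgEquiv F F e).toMulEquiv

theorem glMap_val (e : κ ≃ ι) (g : GL κ F) :
    ((glMap e g : GL ι F) : Matrix ι ι F) = (g : Matrix κ κ F).submatrix e.symm e.symm := rfl

theorem mem_simJ_glMap (e : κ ≃ ι) {Γ : Matrix κ κ F} {h : GL κ F} :
    glMap e h ∈ simJ (Γ.submatrix e.symm e.symm) ↔ h ∈ simJ Γ := by
  rw [mem_simJ, mem_simJ]
  refine exists_congr fun c => ?_
  rw [glMap_val, transpose_submatrix, submatrix_mul_equiv, submatrix_mul_equiv,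
    show (c : F) • Γ.submatrix e.symm e.symm = ((c : F) • Γ).submatrix e.symm e.symm from rfl]
  exact ⟨fun h => (Matrix.reindex e e).injective h, fun h => by rw [h]⟩

/-- Isomorphic subgroups with corresponding scalars have isomorphic projective quotients. -/
theorem projQuot_congr (φ : GL κ F ≃* GL ι F) {H : Subgroup (GL κ F)} {H' : Subgroup (GL ι F)}
    (hH : ∀ g, φ g ∈ H' ↔ g ∈ H) (hs : ∀ g, φ g ∈ Cfsg.Geo.scalars ι F ↔ g ∈ Cfsg.Geo.scalars κ F) :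
    Nonempty (Cfsg.projQuot H ≃* Cfsg.projQuot H') := by
  have hmap : H.map φ.toMonoidHom = H' := by
    ext x
    obtain ⟨g, rfl⟩ := φ.surjective x
    rw [Subgroup.mem_map_equiv, MulEquiv.symm_apply_apply, hH]
  let E : ↥H ≃* ↥H' := (φ.subgroupMap H).trans (MulEquiv.subgroupCongr hmap)
  refine ⟨QuotientGroup.congr _ _ E ?_⟩
  ext x
  obtain ⟨y, rfl⟩ := E.surjective x
  rw [Subgroup.mem_map]
  constructor
  · rintro ⟨z, hz, he⟩
    cases E.injective he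
    exact (hs _).2 hz
  · exact fun h => ⟨y, (hs y).1 h, rfl⟩

theorem scalars_glMap (e : κ ≃ ι) (g : GL κ F) :
    glMap e g ∈ Cfsg.Geo.scalars ι F ↔ g ∈ Cfsg.Geo.scalars κ F := by
  refine exists_congr fun c => ?_
  rw [← (glMap e (F := F)).injective.eq_iff]
  refine Eq.congr_left (Units.ext ?_)
  rw [glMap_val]
  exact (submatrix_diagonal_equiv (fun _ => (c : F)) e.symm).symm

theorem projQuot_reindex (e : κ ≃ ι) (Γ : Matrix κ κ F) :
    Nonempty (Cfsg.projQuot (simJ Γ) ≃* Cfsg.projQuot (simJ (Γ.submatrix e.symm e.symm))) :=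
  projQuot_congr (glMap e) (fun _ => mem_simJ_glMap e) (scalars_glMap e)

section Aut

variable {n : ℕ}

local notation "PSLn" => Matrix.ProjectiveSpecialLinearGroup (Fin n) F
local notation "Mn" => Matrix (Fin n) (Fin n) F

/-- The graph automorphism attached to the form matrix `K`. -/
noncomputable def gaut (K : GL (Fin n) F) : MulAut PSLn := δ K⁻¹ * it

theorem δ_mul_gaut (h K : GL (Fin n) F) :
    δ h * gaut K * (δ h)⁻¹ = δ (h * K⁻¹ * (itGL h)⁻¹) * it := by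
  rw [gaut, ← map_inv, mul_assoc, mul_assoc (δ K⁻¹), it_δ, ← mul_assoc (δ K⁻¹), ← map_mul, ← mul_assoc (δ h),
    ← map_mul, ← mul_assoc]
  rw [show itGL h⁻¹ = (itGL h)⁻¹ from (eq_inv_iff_mul_eq_one).2 (by
    rw [← itGL_mul, inv_mul_cancel]; exact Units.ext (by simp [itGL_coe]))]

theorem congr_inv_iff (hn : 2 ≤ n) (h K K' : GL (Fin n) F) :
    (δ (h * K⁻¹ * (itGL h)⁻¹) : MulAut PSLn) = δ K'⁻¹ ↔
      ∃ c : F, c ≠ 0 ∧ (K : Mn) = c • ((h : Mn)ᵀ * (K' : Mn) * (h : Mn)) := by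
  have h0 : (δ (h * K⁻¹ * (itGL h)⁻¹) : MulAut PSLn) = δ K'⁻¹ ↔
      (δ (itGL h * K * h⁻¹) : MulAut PSLn) = δ K' := by
    rw [show h * K⁻¹ * (itGL h)⁻¹ = (itGL h * K * h⁻¹)⁻¹ by group, map_inv, map_inv, _root_.inv_inj]
  have key : (h : Mn)ᵀ * ((itGL h * K * h⁻¹ : GL (Fin n) F) : Mn) * (h : Mn) = (K : Mn) := by
    rw [← itGL_inv_coe, ← Units.val_mul, ← Units.val_mul]
    congr 1
    group
  have key' : ((itGL h * K * h⁻¹ : GL (Fin n) F) : Mn) =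
      (itGL h : Mn) * (K : Mn) * ((h⁻¹ : GL (Fin n) F) : Mn) := by rw [Units.val_mul, Units.val_mul]
  have key2 : (itGL h : Mn) * ((h : Mn)ᵀ * (K' : Mn) * (h : Mn)) * ((h⁻¹ : GL (Fin n) F) : Mn) = (K' : Mn) := by
    rw [← itGL_inv_coe, ← Units.val_mul, ← Units.val_mul, ← Units.val_mul, ← Units.val_mul]
    congr 1
    group
  rw [h0, δ_eq_iff hn]
  constructor <;> rintro ⟨c, hc, h'⟩ <;> refine ⟨c⁻¹, inv_ne_zero hc, ?_⟩
  · rw [h', Matrix.mul_smul, Matrix.smul_mul, smul_smul, inv_mul_cancel₀ hc, one_smul, key]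
  · rw [key', h', Matrix.mul_smul, Matrix.smul_mul, smul_smul, inv_mul_cancel₀ hc, one_smul, key2]

theorem isConjUnder_gaut_iff (hn : 2 ≤ n) (K K' : GL (Fin n) F) :
    Cfsg.IsConjUnder (Cfsg.inndiagPSL n F) (gaut K) (gaut K') ↔
      ∃ (P : GL (Fin n) F) (c : F), c ≠ 0 ∧ (K : Mn) = c • ((P : Mn)ᵀ * (K' : Mn) * (P : Mn)) := by
  rw [inndiagPSL_eq]
  constructor
  · rintro ⟨_, ⟨h, rfl⟩, he⟩
    rw [δ_mul_gaut, gaut, mul_right_cancel_iff, eq_comm] at he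
    exact ⟨h, (congr_inv_iff hn h K K').1 he⟩
  · rintro ⟨h, hc⟩
    refine ⟨δ h, ⟨h, rfl⟩, ?_⟩
    rw [δ_mul_gaut, (congr_inv_iff hn h K K').2 hc]
    rfl

theorem mem_cent_iff (hn : 2 ≤ n) (K h : GL (Fin n) F) :
    δ h * gaut K = gaut K * δ h ↔ h ∈ simJ (K : Mn) := by
  rw [← mul_inv_eq_iff_eq_mul, δ_mul_gaut, gaut, mul_right_cancel_iff, congr_inv_iff hn, mem_simJ]
  constructor
  · rintro ⟨c, hc, h'⟩
    exact ⟨Units.mk0 c⁻¹ (inv_ne_zero hc), by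
      conv_rhs => rw [h']
      rw [smul_smul, Units.val_mk0, inv_mul_cancel₀ hc, one_smul]⟩
  · rintro ⟨c, h'⟩
    exact ⟨(c : F)⁻¹, inv_ne_zero c.ne_zero, by rw [h', smul_smul, inv_mul_cancel₀ c.ne_zero, one_smul]⟩

theorem comap_centralizer (hn : 2 ≤ n) (K : GL (Fin n) F) :
    (Subgroup.centralizer {gaut K}).comap (δ : GL (Fin n) F →* MulAut PSLn) = simJ (K : Mn) := by
  ext h
  rw [range_δ_comap_centralizer, mem_cent_iff hn]

theorem centralizer_gaut (hn : 2 ≤ n) (K : GL (Fin n) F) :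
    Nonempty (↥(Cfsg.inndiagPSL n F ⊓ Subgroup.centralizer {gaut K}) ≃* Cfsg.projQuot (simJ (K : Mn))) := by
  set ψ := (δ : GL (Fin n) F →* MulAut PSLn).comp (simJ (K : Mn)).subtype
  have hrange : Cfsg.inndiagPSL n F ⊓ Subgroup.centralizer {gaut K} = ψ.range := by
    rw [inndiagPSL_eq, MonoidHom.range_comp, Subgroup.range_subtype, ← comap_centralizer hn,
      Subgroup.map_comap_eq]
  have hker : ψ.ker = (Cfsg.Geo.scalars (Fin n) F).subgroupOf (simJ (K : Mn)) := by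
    ext h
    rw [MonoidHom.mem_ker, MonoidHom.comp_apply, ← MonoidHom.mem_ker, ker_δ hn, mem_center_iff_scalar,
      Subgroup.mem_subgroupOf]
    rfl
  exact ⟨(MulEquiv.subgroupCongr hrange).trans ((QuotientGroup.quotientKerEquivRange ψ).symm.trans
    (QuotientGroup.quotientMulEquivOfEq hker))⟩

/-- Involutory graph automorphisms come from symmetric or alternating forms. -/
theorem exists_gaut (hn : 3 ≤ n) {x : MulAut PSLn} (hx : Cfsg.IsGraphAutClassPSL x) (hx2 : orderOf x = 2) :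
    ∃ K : GL (Fin n) F, x = gaut K ∧ ((K : Mn)ᵀ = (K : Mn) ∨ (K : Mn)ᵀ = -(K : Mn)) := by
  have : NeZero n := ⟨by omega⟩
  obtain ⟨-, d, γ, hd, hγ, rfl⟩ := hx
  obtain ⟨g, rfl⟩ := (isInnerDiagonalAutPSL_iff d).1 hd
  rw [(isInverseTransposeAutPSL_iff γ).1 hγ] at hx2 ⊢
  refine ⟨g⁻¹, by rw [gaut, inv_inv], ?_⟩
  have h1 : (δ g * it : MulAut PSLn) * (δ g * it) = 1 := by rw [← sq, ← hx2, pow_orderOf_eq_one]
  rw [mul_assoc, ← mul_assoc it, it_δ, mul_assoc (δ (itGL g)), it_mul_self, mul_one, ← map_mul,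
    δ_eq_one_iff (by omega)] at h1
  obtain ⟨c, hc, hgc⟩ := h1
  have hK : ((g⁻¹ : GL (Fin n) F) : Mn)ᵀ = c • ((g⁻¹ : GL (Fin n) F) : Mn) := by
    calc ((g⁻¹ : GL (Fin n) F) : Mn)ᵀ
        = ((g⁻¹ : GL (Fin n) F) : Mn) * ((g : Mn) * (itGL g : Mn)) := by
          rw [itGL_coe, ← mul_assoc, ← Units.val_mul, inv_mul_cancel, Units.val_one, one_mul]
      _ = _ := by rw [← Units.val_mul g, hgc, Matrix.mul_smul, mul_one]
  have h2 : ((g⁻¹ : GL (Fin n) F) : Mn) = (c * c) • ((g⁻¹ : GL (Fin n) F) : Mn) := by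
    have := congrArg transpose hK
    rw [transpose_transpose, transpose_smul, hK, smul_smul] at this
    exact this
  have hc2 : c * c = 1 := by
    by_contra hne
    have h3 : (c * c - 1) • ((g⁻¹ : GL (Fin n) F) : Mn) = 0 := by rw [sub_smul, one_smul, ← h2, sub_self]
    exact (g⁻¹).ne_zero ((smul_eq_zero.1 h3).resolve_left (sub_ne_zero.2 hne))
  rcases mul_self_eq_one_iff.1 hc2 with rfl | rfl
  · exact Or.inl (by rw [hK, one_smul])
  · exact Or.inr (by rw [hK, neg_one_smul])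

theorem gaut_isGraph (hn : 3 ≤ n) (K : GL (Fin n) F) {ε : F} (hε : ε ≠ 0) (hK : (K : Mn)ᵀ = ε • (K : Mn)) :
    Cfsg.IsGraphAutClassPSL (gaut K) ∧ orderOf (gaut K) = 2 := by
  refine ⟨⟨hn, δ K⁻¹, it, (isInnerDiagonalAutPSL_iff _).2 ⟨_, rfl⟩, (isInverseTransposeAutPSL_iff _).2 rfl, rfl⟩,
    orderOf_eq_prime ?_ ?_⟩
  · rw [sq, gaut, mul_assoc, ← mul_assoc it, it_δ, mul_assoc (δ (itGL K⁻¹)), it_mul_self, mul_one, ← map_mul,
      δ_eq_one_iff (by omega)]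
    refine ⟨ε, hε, ?_⟩
    rw [Units.val_mul, itGL_coe, inv_inv, hK, Matrix.mul_smul, ← Units.val_mul, inv_mul_cancel, Units.val_one]
  · intro h
    have := δ_fld_ne_it hn K (1 : F ≃+* F)
    rw [map_one, mul_one] at this
    refine this ?_
    rw [← mul_one (δ K), ← h, gaut, ← mul_assoc, ← map_mul, mul_inv_cancel, map_one, one_mul]

end Aut

end CfsgLib.Geometry.GraphPSL
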