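import Cfsg.Agent.Lib.Geometry.GraphPSL.Cent
import Cfsg.Agent.Lib.Geometry.PGOStd
import Cfsg.Agent.Lib.Classical.OddSymp

/-!
# The projective similarity groups of the standard forms
-/

set_option autoImplicit false

namespace CfsgLib.Geometry.GraphPSL

open Matrix QuadraticMap

variable {ι : Type} [Fintype ι] [DecidableEq ι] {F : Type*} [Field F] {m : ℕ}

theorem GSp_eq : Cfsg.GSp m F = simJ (stdJ m F) := rfl

theorem quadSim_eq (h2 : (2 : F) ≠ 0) (M : Matrix ι ι F) {Q : (ι → F) → F} (hQ : ⇑(matQuad M) = Q) :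
    Cfsg.Geo.quadSimilarityGroup Q = simJ (M + Mᵀ) := by
  subst hQ
  ext g
  refine exists_congr fun c => ⟨fun h u v => ?_, fun h v => mul_left_cancel₀ h2 ?_⟩
  · simp only [← polar_matQuad]
    rw [polar, polar, ← mulVec_add, h, h, h]
    ring
  · have := h v v
    simp only [← polar_matQuad] at this
    rw [polar_self' (matQuad M), polar_self' (matQuad M)] at this
    rw [this]
    ring

/-- The matrix of the odd standard form. -/
def oddMat (m : ℕ) (F : Type*) [Field F] : Matrix (Unit ⊕ (Fin m ⊕ Fin m)) (Unit ⊕ (Fin m ⊕ Fin m)) F :=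
  fromBlocks 1 0 0 (plusMat m F)

theorem coe_matQuad_odd (m : ℕ) : ⇑(matQuad (oddMat m F)) = Cfsg.quadFormOdd m F := by
  funext v
  simp [matQuad_apply, oddMat, plusMat, dotProduct, Cfsg.quadFormOdd, fromBlocks_mulVec, Fintype.sum_sum_type,
    pow_two]

theorem det_odd_gram (m : ℕ) : (oddMat m F + (oddMat m F)ᵀ).det = 2 * (-1) ^ m := by
  rw [oddMat, fromBlocks_transpose, fromBlocks_add]
  simp only [transpose_zero, add_zero, transpose_one]
  rw [det_fromBlocks_zero₁₂, det_plus_gram, det_unique]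
  simp [one_add_one_eq_two]

/-- The isometries of the bilinear form with matrix `Γ`. -/
def isoJ (Γ : Matrix ι ι F) : Subgroup (GL ι F) where
  carrier := {h | (h : Matrix ι ι F)ᵀ * Γ * (h : Matrix ι ι F) = Γ}
  one_mem' := by simp
  mul_mem' {a b} ha hb := by
    simp only [Set.mem_ofPred_eq, Units.val_mul, transpose_mul] at *
    calc _ = (b : Matrix ι ι F)ᵀ * ((a : Matrix ι ι F)ᵀ * Γ * (a : Matrix ι ι F)) * (b : Matrix ι ι F) := by
          simp only [mul_assoc]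
      _ = Γ := by rw [ha, hb]
  inv_mem' {a} ha := by
    simp only [Set.mem_ofPred_eq] at *
    calc _ = ((a⁻¹ : GL ι F) : Matrix ι ι F)ᵀ * ((a : Matrix ι ι F)ᵀ * Γ * (a : Matrix ι ι F)) *
          ((a⁻¹ : GL ι F) : Matrix ι ι F) := by rw [ha]
      _ = ((a : Matrix ι ι F) * ((a⁻¹ : GL ι F) : Matrix ι ι F))ᵀ * Γ *
          ((a : Matrix ι ι F) * ((a⁻¹ : GL ι F) : Matrix ι ι F)) := by rw [transpose_mul]; simp only [mul_assoc]
      _ = Γ := by simp

theorem mem_isoJ {Γ : Matrix ι ι F} {h : GL ι F} :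
    h ∈ isoJ Γ ↔ (h : Matrix ι ι F)ᵀ * Γ * (h : Matrix ι ι F) = Γ := Iff.rfl

section CharTwo

variable [CharP F 2]

/-- In characteristic two a similarity group is its isometry group times the scalars. -/
theorem projQuot_of_decomp {T T₁ : Subgroup (GL ι F)} (hle : T₁ ≤ T) (hsc : Cfsg.Geo.scalars ι F ≤ T)
    (hdec : ∀ g ∈ T, ∃ s ∈ Cfsg.Geo.scalars ι F, g * s ∈ T₁)
    (htriv : ∀ g ∈ T₁, g ∈ Cfsg.Geo.scalars ι F → g = 1) : Nonempty (↥T₁ ≃* Cfsg.projQuot T) := by
  have hn : ((Cfsg.Geo.scalars ι F).subgroupOf T).Normal := inferInstance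
  let f : ↥T₁ →* Cfsg.projQuot T := (QuotientGroup.mk' _).comp (Subgroup.inclusion hle)
  refine ⟨MulEquiv.ofBijective f ⟨?_, ?_⟩⟩
  · refine (injective_iff_map_eq_one f).2 fun g hg => Subtype.ext (htriv g g.2 ?_)
    have := (QuotientGroup.eq_one_iff _).1 (show ((Subgroup.inclusion hle g : ↥T) : Cfsg.projQuot T) = 1 from hg)
    simpa [Subgroup.mem_subgroupOf] using this
  · intro x
    obtain ⟨g, rfl⟩ := QuotientGroup.mk_surjective x
    obtain ⟨s, hs, hgs⟩ := hdec g g.2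
    refine ⟨⟨_, hgs⟩, QuotientGroup.eq.2 ?_⟩
    rw [Subgroup.mem_subgroupOf]
    show ((g : GL ι F) * s)⁻¹ * g ∈ _
    rw [_root_.mul_inv_rev, mul_assoc, inv_mul_cancel, mul_one]
    exact inv_mem hs

theorem sc_mem_scalars (d : Fˣ) : ∀ {g : GL ι F}, (g : Matrix ι ι F) = (d : F) • 1 → g ∈ Cfsg.Geo.scalars ι F :=
  fun h => (Cfsg.Geo.mem_scalars_iff _).2 ⟨d, h⟩

theorem exists_sc (d : Fˣ) : ∃ s ∈ Cfsg.Geo.scalars ι F, (s : Matrix ι ι F) = (d : F) • 1 := by
  refine ⟨_, ⟨d, rfl⟩, ?_⟩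
  show Matrix.scalar ι (d : F) = _
  rw [Matrix.scalar_apply, smul_one_eq_diagonal]

theorem exists_sq_inv [Finite F] (c : Fˣ) : ∃ d : Fˣ, (d : F) * d * c = 1 := by
  obtain ⟨r, hr⟩ := FiniteField.isSquare_of_char_two (ringChar.eq F 2) ((c : F)⁻¹)
  have hr0 : r ≠ 0 := fun h => inv_ne_zero c.ne_zero (by rw [hr, h, mul_zero])
  exact ⟨Units.mk0 r hr0, by rw [Units.val_mk0, ← hr, inv_mul_cancel₀ c.ne_zero]⟩

theorem projQuot_simJ [Finite F] {Γ : Matrix ι ι F} (hΓ : Γ ≠ 0) :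
    Nonempty (↥(isoJ Γ) ≃* Cfsg.projQuot (simJ Γ)) := by
  refine projQuot_of_decomp (fun h hh => mem_simJ.2 ⟨1, by rw [mem_isoJ.1 hh, Units.val_one, one_smul]⟩) ?_ ?_ ?_
  · intro g hg
    obtain ⟨d, hd⟩ := (Cfsg.Geo.mem_scalars_iff g).1 hg
    exact mem_simJ.2 ⟨d * d, by
      rw [hd, transpose_smul, transpose_one, Matrix.smul_mul, one_mul, Matrix.smul_mul, Matrix.mul_smul, mul_one,
        smul_smul, Units.val_mul]⟩
  · intro g hg
    obtain ⟨c, hc⟩ := mem_simJ.1 hg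
    obtain ⟨d, hd⟩ := exists_sq_inv c
    obtain ⟨s, hs, hsv⟩ := exists_sc (ι := ι) d
    refine ⟨s, hs, mem_isoJ.2 ?_⟩
    rw [Units.val_mul, hsv, Matrix.mul_smul, mul_one, transpose_smul, Matrix.smul_mul, Matrix.smul_mul,
      Matrix.mul_smul, hc, smul_smul, smul_smul, hd, one_smul]
  · intro g hg hs
    obtain ⟨d, hd⟩ := (Cfsg.Geo.mem_scalars_iff g).1 hs
    have h := mem_isoJ.1 hg
    rw [hd, transpose_smul, transpose_one, Matrix.smul_mul, one_mul, Matrix.smul_mul, Matrix.mul_smul, mul_one,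
      smul_smul] at h
    have h1 : ((d : F) * d - 1) • Γ = 0 := by rw [sub_smul, h, one_smul, sub_self]
    have h2 := sub_eq_zero.1 ((smul_eq_zero.1 h1).resolve_right hΓ)
    have hd1 : (d : F) = 1 := CfsgLib.Classical.sq_inj_char_two (by rw [_root_.sq, one_pow, h2])
    exact Units.ext (by rw [hd, hd1, one_smul, Units.val_one])

theorem PGO_odd [Finite F] :
    Nonempty (↥(Cfsg.isometryGroup F (Cfsg.quadFormOdd m F)) ≃* Cfsg.PGO F (Cfsg.quadFormOdd m F)) := by
  have hsmul : ∀ (d : F) (v : Unit ⊕ (Fin m ⊕ Fin m) → F),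
      Cfsg.quadFormOdd m F (d • v) = d * d * Cfsg.quadFormOdd m F v := fun d v => by
    rw [← coe_matQuad_odd, QuadraticMap.map_smul, smul_eq_mul]
  refine projQuot_of_decomp (fun g hg => ⟨1, fun v => by rw [Units.val_one, one_mul]; exact hg v v⟩) ?_ ?_ ?_
  · intro g hg
    obtain ⟨d, hd⟩ := (Cfsg.Geo.mem_scalars_iff g).1 hg
    exact ⟨d * d, fun v => by rw [hd, smul_mulVec, one_mulVec, hsmul, Units.val_mul]⟩
  · rintro g ⟨c, hc⟩
    obtain ⟨d, hd⟩ := exists_sq_inv c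
    obtain ⟨s, hs, hsv⟩ := exists_sc (ι := Unit ⊕ (Fin m ⊕ Fin m)) d
    refine ⟨s, hs, fun u _ => ?_⟩
    show Cfsg.quadFormOdd m F (((g * s : GL _ F) : Matrix _ _ F) *ᵥ u) = _
    rw [Units.val_mul, hsv, Matrix.mul_smul, mul_one, smul_mulVec, hsmul, hc, ← mul_assoc, hd, one_mul]
  · intro g hg hs
    obtain ⟨d, hd⟩ := (Cfsg.Geo.mem_scalars_iff g).1 hs
    let e : Unit ⊕ (Fin m ⊕ Fin m) → F := Sum.elim (fun _ => 1) 0
    have he : Cfsg.quadFormOdd m F e = 1 := by simp [Cfsg.quadFormOdd, e]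
    have h : Cfsg.quadFormOdd m F ((g : Matrix _ _ F) *ᵥ e) = Cfsg.quadFormOdd m F e := hg e e
    rw [hd, smul_mulVec, one_mulVec, hsmul, he, mul_one] at h
    have hd1 : (d : F) = 1 := CfsgLib.Classical.sq_inj_char_two (by rw [_root_.sq, one_pow, h])
    exact Units.ext (by rw [hd, hd1, one_smul, Units.val_one])

theorem isoJ_std : Nonempty (↥(isoJ (stdJ m F)) ≃* ↥(Matrix.symplecticGroup (Fin m) F)) := by
  let f : ↥(isoJ (stdJ m F)) →* ↥(Matrix.symplecticGroup (Fin m) F) :=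
    { toFun := fun h => ⟨h.1.1, SymplecticGroup.mem_iff'.2 h.2⟩
      map_one' := rfl
      map_mul' := fun _ _ => rfl }
  refine ⟨MulEquiv.ofBijective f ⟨fun a b h => Subtype.ext (Units.ext (congrArg Subtype.val h)), fun A => ?_⟩⟩
  exact ⟨⟨GeneralLinearGroup.mkOfDetNeZero A.1 (SymplecticGroup.symplectic_det A.2).ne_zero,
    SymplecticGroup.mem_iff'.1 A.2⟩, rfl⟩

theorem oddJ_iso_blocks [Finite F] {h : GL (Unit ⊕ (Fin m ⊕ Fin m)) F} (hh : h ∈ isoJ (oddJ m F)) :
    ∃ A : Matrix (Fin m ⊕ Fin m) (Fin m ⊕ Fin m) F,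
      h.val = fromBlocks 1 0 0 A ∧ Aᵀ * stdJ m F * A = stdJ m F := by
  set a := h.val.toBlocks₁₁
  set b := h.val.toBlocks₁₂
  set c := h.val.toBlocks₂₁
  set A := h.val.toBlocks₂₂
  have hb : h.val = fromBlocks a b c A := (fromBlocks_toBlocks _).symm
  have h0 := mem_isoJ.1 hh
  rw [hb, oddJ, fromBlocks_transpose, fromBlocks_multiply, fromBlocks_multiply] at h0
  simp only [Matrix.mul_one, Matrix.mul_zero, add_zero, zero_add] at h0
  obtain ⟨h11, h12, h21, h22⟩ := fromBlocks_inj.1 h0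
  have hJd : ∀ B : Matrix (Fin m ⊕ Fin m) Unit F, (Bᵀ * stdJ m F * B) () () = 0 := fun B => by
    simp [Matrix.mul_apply, Matrix.J, Fintype.sum_sum_type, Matrix.one_apply, CharTwo.neg_eq, mul_comm,
      CharTwo.add_self_eq_zero]
  have ha : a () () = 1 := by
    have := congrFun (congrFun h11 ()) ()
    rw [Matrix.add_apply, hJd, add_zero, Matrix.mul_apply, Finset.univ_unique, Finset.sum_singleton,
      Matrix.one_apply_eq] at this
    exact CfsgLib.Classical.sq_inj_char_two (by rw [_root_.sq, one_pow]; exact this)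
  have hb0 : b = 0 := by
    ext ⟨⟩ j
    have := congrFun (congrFun h22 j) j
    rw [Matrix.add_apply, Matrix.mul_apply, Finset.univ_unique, Finset.sum_singleton, transpose_apply] at this
    have hAd : (Aᵀ * stdJ m F * A) j j = 0 := by
      have := hJd (Matrix.of fun i _ => A i j)
      simpa [Matrix.mul_apply] using this
    have hsd : stdJ m F j j = 0 := by rcases j with j | j <;> simp [Matrix.J]
    rw [hAd, hsd, add_zero] at this
    simpa using (mul_self_eq_zero.1 this)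
  rw [hb0, transpose_zero, Matrix.zero_mul, zero_add] at h22 h21
  have hA : A.det ≠ 0 := fun h' => det_stdJ_ne_zero m (F := F) (by
    rw [← h22, det_mul, det_mul, h', mul_zero])
  have hc : c = 0 := by
    have hu : IsUnit (Aᵀ * stdJ m F) := (Matrix.isUnit_iff_isUnit_det _).2 (by
      rw [det_mul, det_transpose]; exact IsUnit.mk0 _ (mul_ne_zero hA (det_stdJ_ne_zero m)))
    rw [← Matrix.nonsing_inv_mul_cancel_left (Aᵀ * stdJ m F) c ((Matrix.isUnit_iff_isUnit_det _).1 hu), h21,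
      Matrix.mul_zero]
  refine ⟨A, ?_, h22⟩
  rw [hb, hb0, hc, show a = 1 from Matrix.ext fun i j => by rw [Matrix.one_apply]; simp [ha]]

theorem isoJ_odd [Finite F] : Nonempty (↥(isoJ (oddJ m F)) ≃* ↥(Matrix.symplecticGroup (Fin m) F)) := by
  classical
  let f : ↥(isoJ (oddJ m F)) →* ↥(Matrix.symplecticGroup (Fin m) F) :=
    { toFun := fun h => ⟨(h.1.1).toBlocks₂₂, by
        obtain ⟨A, hA, hA'⟩ := oddJ_iso_blocks h.2
        rw [hA, toBlocks_fromBlocks₂₂]
        exact SymplecticGroup.mem_iff'.2 hA'⟩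
      map_one' := Subtype.ext (by
        show (1 : Matrix (Unit ⊕ (Fin m ⊕ Fin m)) (Unit ⊕ (Fin m ⊕ Fin m)) F).toBlocks₂₂ = 1
        rw [← fromBlocks_one, toBlocks_fromBlocks₂₂])
      map_mul' := fun g h => Subtype.ext (by
        show (g.1.1 * h.1.1).toBlocks₂₂ = g.1.1.toBlocks₂₂ * h.1.1.toBlocks₂₂
        obtain ⟨A, hA, -⟩ := oddJ_iso_blocks g.2
        obtain ⟨B, hB, -⟩ := oddJ_iso_blocks h.2
        rw [hA, hB, fromBlocks_multiply]
        simp) }
  refine ⟨MulEquiv.ofBijective f ⟨?_, fun A => ?_⟩⟩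
  · refine (injective_iff_map_eq_one f).2 fun g hg => Subtype.ext (Units.ext ?_)
    obtain ⟨A, hA, -⟩ := oddJ_iso_blocks g.2
    have h1 : g.1.1.toBlocks₂₂ = 1 := congrArg Subtype.val hg
    rw [hA, toBlocks_fromBlocks₂₂] at h1
    rw [hA, h1, fromBlocks_one]
    rfl
  · refine ⟨⟨GeneralLinearGroup.mkOfDetNeZero (fromBlocks 1 0 0 A.1) (by
      rw [det_fromBlocks_zero₁₂, det_one, one_mul]; exact (SymplecticGroup.symplectic_det A.2).ne_zero), ?_⟩,
      Subtype.ext ?_⟩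
    · show (fromBlocks 1 0 0 A.1)ᵀ * oddJ m F * fromBlocks 1 0 0 A.1 = oddJ m F
      rw [oddJ, fromBlocks_transpose, fromBlocks_multiply, fromBlocks_multiply]
      simp [SymplecticGroup.mem_iff'.1 A.2]
    · show (fromBlocks 1 0 0 A.1).toBlocks₂₂ = A.1
      rw [toBlocks_fromBlocks₂₂]

/-- The transvection of the vector `wVec`. -/
def wTransv (m : ℕ) (F : Type*) [Field F] : Matrix (Fin m ⊕ Fin m) (Fin m ⊕ Fin m) F :=
  1 + vecMulVec (wVec m F) (stdJ m F *ᵥ wVec m F)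

theorem stdJ_transpose : (stdJ m F)ᵀ = stdJ m F := by rw [Matrix.J_transpose, neg_eq_self']

theorem stdJ_inj {x y : Fin m ⊕ Fin m → F} (h : stdJ m F *ᵥ x = stdJ m F *ᵥ y) : x = y := by
  have h' := congrArg (fun z => stdJ m F *ᵥ z) h
  simp only [mulVec_mulVec, stdJ, Matrix.J_squared, neg_eq_self', one_mulVec] at h'
  exact h'

theorem self_pairing (x : Fin m ⊕ Fin m → F) : x ⬝ᵥ stdJ m F *ᵥ x = 0 := sympBilin_isAlt m F x

theorem wTransv_mem : wTransv m F ∈ Matrix.symplecticGroup (Fin m) F := by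
  set w := wVec m F
  set φ := stdJ m F *ᵥ w with hφ
  refine SymplecticGroup.mem_iff'.2 ?_
  have hJw : w ᵥ* stdJ m F = φ := by rw [hφ, ← mulVec_transpose, stdJ_transpose]
  have hφw : φ ⬝ᵥ w = 0 := by rw [dotProduct_comm]; exact self_pairing w
  rw [wTransv, transpose_add, transpose_one, transpose_vecMulVec, Matrix.add_mul, Matrix.add_mul, Matrix.one_mul,
    Matrix.mul_add, Matrix.mul_one, mul_vecMulVec, ← hφ, Matrix.mul_add, Matrix.mul_one, vecMulVec_mul, hJw,
    vecMulVec_mul_vecMulVec, hφw]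
  simp only [zero_smul, vecMulVec_zero, add_zero]
  rw [add_assoc, ← two_smul F (vecMulVec φ φ), CharTwo.two_eq_zero, zero_smul, add_zero]

theorem wTransv_isTransvection (hm : 0 < m) : Cfsg.IsTransvection (wTransv m F) := by
  have hφw : (stdJ m F *ᵥ wVec m F) ⬝ᵥ wVec m F = 0 := by rw [dotProduct_comm]; exact self_pairing _
  constructor <;> rw [wTransv, add_sub_cancel_left]
  · refine le_antisymm (Matrix.rank_vecMulVec_le _ _) (Nat.one_le_iff_ne_zero.2 fun h => ?_)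
    rw [Matrix.rank, Submodule.finrank_eq_zero, LinearMap.range_eq_bot] at h
    have hv : vecMulVec (wVec m F) (stdJ m F *ᵥ wVec m F) = 0 :=
      Matrix.ext_of_mulVec_single fun i => by
        rw [Matrix.zero_mulVec]; exact LinearMap.congr_fun h _
    rcases Matrix.vecMulVec_eq_zero.1 hv with h' | h'
    · exact wVec_ne_zero hm h'
    · exact wVec_ne_zero hm (stdJ_inj (h'.trans (mulVec_zero _).symm))
  · rw [vecMulVec_mul_vecMulVec, hφw, zero_smul, vecMulVec_zero]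

theorem isoJ_sym [Finite F] (hm : 0 < m) :
    Nonempty (↥(isoJ (symJ m F)) ≃*
      ↥(Subgroup.centralizer ({⟨wTransv m F, wTransv_mem⟩} : Set ↥(Matrix.symplecticGroup (Fin m) F)))) := by
  classical
  set w := wVec m F
  set φ := stdJ m F *ᵥ w with hφ
  have key : ∀ h : GL (Fin m ⊕ Fin m) F, h ∈ isoJ (symJ m F) ↔
      (h.valᵀ * stdJ m F * h.val = stdJ m F ∧
        h.valᵀ *ᵥ φ = φ ∧ h.val *ᵥ w = w) := by
    intro h
    constructor
    · intro hh
      have h0 := mem_isoJ.1 hh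
      rw [symJ, ← hφ, Matrix.mul_add, Matrix.add_mul, mul_vecMulVec, vecMulVec_mul, ← mulVec_transpose] at h0
      have hd : ∀ i, (h.valᵀ * stdJ m F * h.val) i i = 0 := fun i => by
        have := self_pairing (h.val *ᵥ Pi.single i 1)
        rw [form_mulVec] at this
        simpa using this
      have hφ' : h.valᵀ *ᵥ φ = φ := funext fun i => by
        have := congrFun (congrFun h0 i) i
        rw [Matrix.add_apply, hd, zero_add, Matrix.add_apply, vecMulVec_apply, vecMulVec_apply,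
          show stdJ m F i i = 0 by rcases i with i | i <;> simp [Matrix.J], zero_add] at this
        exact CfsgLib.Classical.sq_inj_char_two (by rw [_root_.sq, _root_.sq]; exact this)
      rw [hφ', add_left_inj] at h0
      refine ⟨h0, hφ', ?_⟩
      have h1 : h.valᵀ *ᵥ (stdJ m F *ᵥ (h.val *ᵥ w)) =
          h.valᵀ *ᵥ φ := by
        rw [mulVec_mulVec, mulVec_mulVec, h0, hφ', hφ]
      have hu : Function.Injective (h.valᵀ *ᵥ ·) :=
        mulVec_injective_of_isUnit ((Matrix.isUnit_transpose (A := h.val)).2 h.isUnit)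
      exact stdJ_inj (hu h1)
    · rintro ⟨h0, hφ', -⟩
      rw [mem_isoJ, symJ, ← hφ, Matrix.mul_add, Matrix.add_mul, mul_vecMulVec, vecMulVec_mul, ← mulVec_transpose,
        hφ', h0]
  let f : ↥(isoJ (symJ m F)) →* ↥(Matrix.symplecticGroup (Fin m) F) :=
    { toFun := fun h => ⟨h.1.1, SymplecticGroup.mem_iff'.2 ((key h.1).1 h.2).1⟩
      map_one' := rfl
      map_mul' := fun _ _ => rfl }
  have hf : Function.Injective f := fun a b h => Subtype.ext (Units.ext (congrArg Subtype.val h))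
  refine ⟨(MonoidHom.ofInjective hf).trans (MulEquiv.subgroupCongr ?_)⟩
  ext A
  rw [Subgroup.mem_centralizer_singleton_iff, Subtype.ext_iff]
  show A ∈ f.range ↔ A.1 * wTransv m F = wTransv m F * A.1
  rw [wTransv, Matrix.mul_add, Matrix.add_mul, Matrix.mul_one, Matrix.one_mul, add_right_inj, mul_vecMulVec,
    vecMulVec_mul, ← mulVec_transpose, ← hφ]
  constructor
  · rintro ⟨h, rfl⟩
    obtain ⟨-, h1, h2⟩ := (key h.1).1 h.2
    show vecMulVec (h.1.1 *ᵥ w) φ = vecMulVec w (h.1.1ᵀ *ᵥ φ)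
    rw [h1, h2]
  · intro hA
    have hS := SymplecticGroup.mem_iff'.1 A.2
    have hAdet : A.1.det ≠ 0 := (SymplecticGroup.symplectic_det A.2).ne_zero
    have hw0 := wVec_ne_zero (F := F) hm
    have hφ0 : φ ≠ 0 := fun h => hw0 (stdJ_inj (h.trans (mulVec_zero _).symm))
    obtain ⟨j, hj⟩ := Function.ne_iff.1 hφ0
    obtain ⟨i, hi⟩ := Function.ne_iff.1 hw0
    simp only [Pi.zero_apply] at hi hj
    set l := (A.1ᵀ *ᵥ φ) j / φ j
    have hAw : A.1 *ᵥ w = l • w := funext fun k => by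
      have h := congrFun (congrFun hA k) j
      rw [vecMulVec_apply, vecMulVec_apply] at h
      rw [Pi.smul_apply, smul_eq_mul, ← mul_left_inj' hj, h]
      show w k * (A.1ᵀ *ᵥ φ) j = (A.1ᵀ *ᵥ φ) j / φ j * w k * φ j
      field_simp
    have hAφ : l • φ = A.1ᵀ *ᵥ φ := funext fun k => by
      have h := congrFun (congrFun hA i) k
      rw [hAw, vecMulVec_apply, vecMulVec_apply, Pi.smul_apply, smul_eq_mul] at h
      rw [Pi.smul_apply, smul_eq_mul]
      exact mul_left_cancel₀ hi (by rw [← h]; ring)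
    have hl : l * l = 1 := by
      have h1 : A.1ᵀ *ᵥ (stdJ m F *ᵥ (A.1 *ᵥ w)) = φ := by rw [mulVec_mulVec, mulVec_mulVec, hS, hφ]
      rw [hAw, mulVec_smul, mulVec_smul, ← hφ, ← hAφ, smul_smul] at h1
      exact smul_left_injective F hφ0 (h1.trans (one_smul F φ).symm)
    have hl1 : l = 1 := CfsgLib.Classical.sq_inj_char_two (by rw [_root_.sq, one_pow, hl])
    refine ⟨⟨GeneralLinearGroup.mkOfDetNeZero A.1 hAdet, (key _).2 ⟨hS, ?_, ?_⟩⟩, rfl⟩
    · show A.1ᵀ *ᵥ φ = φ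
      rw [← hAφ, hl1, one_smul]
    · show A.1 *ᵥ w = w
      rw [hAw, hl1, one_smul]

end CharTwo

end CfsgLib.Geometry.GraphPSL
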