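import Cfsg.Agent.Lib.Geometry.GraphPSL.Classes
import Cfsg.Agent.Lib.Geometry.SympDet
import Cfsg.Agent.S0245
import Cfsg.Agent.S0287
import Cfsg.Agent.S0288

/-!
# Splitting of the classes of involutory graph automorphisms over `PSL_n`
-/

set_option autoImplicit false

namespace CfsgLib.Geometry.GraphPSL

open Matrix CfsgLib.KnownB.PSLAut

variable {κ : Type} [Fintype κ] [DecidableEq κ] {F : Type*} [Field F] [Finite F] {n : ℕ}

local notation "Mn" => Matrix (Fin n) (Fin n) F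
local notation "RR" => MonoidHom.range (powMonoidHom n : Fˣ →* Fˣ)

theorem exists_sim {Γ : Matrix κ κ F} {c : Fˣ} (h : Congr Γ ((c : F) • Γ)) :
    ∃ g : GL κ F, g ∈ simJ Γ ∧ (g : Matrix κ κ F)ᵀ * Γ * (g : Matrix κ κ F) = (c : F) • Γ := by
  obtain ⟨g, hg⟩ := h
  exact ⟨g, mem_simJ.2 ⟨c, hg⟩, hg⟩

theorem det_sim_sq {K g : GL (Fin n) F} {c : Fˣ} (hg : (g : Mn)ᵀ * (K : Mn) * (g : Mn) = (c : F) • (K : Mn)) :
    GeneralLinearGroup.det g ^ 2 = c ^ n := by
  refine Units.ext ?_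
  have h := congrArg Matrix.det hg
  rw [det_mul, det_mul, det_transpose, det_smul, Fintype.card_fin] at h
  rw [Units.val_pow_eq_pow_val, Units.val_pow_eq_pow_val]
  refine mul_right_cancel₀ (GeneralLinearGroup.det K).ne_zero ?_
  show (g : Mn).det ^ 2 * (K : Mn).det = (c : F) ^ n * (K : Mn).det
  rw [← h]
  ring

theorem index_RR : (RR).index = Nat.gcd (Nat.card F - 1) n := by
  rw [IsCyclic.index_powMonoidHom_range, Nat.card_units]

/-- The odd case of the splitting. -/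
theorem split_odd (hn : 3 ≤ n) (K : GL (Fin n) F) (hd : Odd (Nat.gcd (Nat.card F - 1) n)) :
    Cfsg.splitClassCount (Cfsg.inndiagPSL n F) (Cfsg.Inn (Matrix.ProjectiveSpecialLinearGroup (Fin n) F)) (gaut K) =
      Nat.gcd (Nat.card F - 1) n := by
  rw [inndiagPSL_eq, splitClassCount_eq (by omega) (gaut K) ⊥, Subgroup.index_bot, Nat.card_units,
    ← Nat.gcd_assoc, Nat.gcd_self]
  rw [comap_centralizer (by omega), bot_sup_eq, sup_eq_right, Subgroup.map_le_iff_le_comap]
  intro g hg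
  obtain ⟨c, hc⟩ := mem_simJ.1 hg
  rw [Subgroup.mem_comap]
  obtain ⟨k, hk⟩ := hd
  have h1 : GeneralLinearGroup.det g ^ (2 * k + 1) ∈ RR := by
    rw [← hk, ← index_RR]; exact Subgroup.pow_index_mem _ _
  have h2 : (GeneralLinearGroup.det g ^ 2) ^ k ∈ RR := by
    rw [det_sim_sq hc]; exact Subgroup.pow_mem _ (show c ^ n ∈ RR from ⟨c, rfl⟩) k
  rw [pow_succ, pow_mul] at h1
  exact (Subgroup.mul_mem_cancel_left _ h2).1 h1

/-- The alternating case of the splitting. -/
theorem split_alt (hn : 3 ≤ n) {m : ℕ} (hnm : n = 2 * m) (h2 : (2 : F) ≠ 0) (K : GL (Fin n) F)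
    (hK : (K : Mn)ᵀ = -(K : Mn)) :
    Cfsg.splitClassCount (Cfsg.inndiagPSL n F) (Cfsg.Inn (Matrix.ProjectiveSpecialLinearGroup (Fin n) F)) (gaut K) =
      Nat.gcd m (Nat.card F - 1) := by
  have hd : ∀ (M : Mn), Mᵀ = -M → ∀ i, M i i = 0 := fun M hM i => by
    have := congrFun (congrFun hM i) i
    rw [transpose_apply, Matrix.neg_apply, eq_neg_iff_add_eq_zero, ← two_mul] at this
    exact (mul_eq_zero.1 this).resolve_left h2
  have hdet : ((simJ (K : Mn)).map GeneralLinearGroup.det) = (powMonoidHom m : Fˣ →* Fˣ).range := by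
    refine le_antisymm ?_ ?_
    · rintro _ ⟨g, hg, rfl⟩
      obtain ⟨c, hc⟩ := mem_simJ.1 hg
      refine ⟨c, Units.ext ?_⟩
      rw [powMonoidHom_apply, Units.val_pow_eq_pow_val]
      symm
      rw [GeneralLinearGroup.val_det_apply, ← LinearMap.det_toLin']
      refine det_alt_similitude (isAlt_toBilin' hK (hd _ hK)) (fun u hu => ?_) c.ne_zero (fun u v => ?_)
        (by rw [Module.finrank_pi, Fintype.card_fin, hnm])
      · refine Matrix.eq_zero_of_vecMul_eq_zero (M := (K : Mn)) (GeneralLinearGroup.det K).ne_zero ?_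
        refine dotProduct_eq_zero _ fun v => ?_
        rw [← dotProduct_mulVec, ← Matrix.toBilin'_apply']
        exact hu v
      · rw [Matrix.toBilin'_apply', Matrix.toBilin'_apply', toLin'_apply, toLin'_apply, form_mulVec, hc, smul_mulVec,
          dotProduct_smul, smul_eq_mul]
    · rintro _ ⟨c, rfl⟩
      have hcK : ((c : F) • (K : Mn))ᵀ = -((c : F) • (K : Mn)) := by rw [transpose_smul, hK, smul_neg]
      let e : Fin m ⊕ Fin m ≃ Fin n := Fintype.equivFinOfCardEq (by simp; omega)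
      have hKd : (K : Mn).det ≠ 0 := (GeneralLinearGroup.det K).ne_zero
      obtain ⟨g, hg, hgc⟩ := exists_sim ((congr_alt hK (hd _ hK) hKd e).trans
        (congr_alt hcK (hd _ hcK) (by rw [det_smul]; exact mul_ne_zero (pow_ne_zero _ c.ne_zero) hKd) e).symm)
      refine ⟨g, hg, Units.ext ?_⟩
      rw [powMonoidHom_apply, Units.val_pow_eq_pow_val, GeneralLinearGroup.val_det_apply, ← LinearMap.det_toLin']
      refine det_alt_similitude (isAlt_toBilin' hK (hd _ hK)) (fun u hu => ?_) c.ne_zero (fun u v => ?_)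
        (by rw [Module.finrank_pi, Fintype.card_fin, hnm])
      · refine Matrix.eq_zero_of_vecMul_eq_zero (M := (K : Mn)) hKd ?_
        refine dotProduct_eq_zero _ fun v => ?_
        rw [← dotProduct_mulVec, ← Matrix.toBilin'_apply']
        exact hu v
      · rw [Matrix.toBilin'_apply', Matrix.toBilin'_apply', toLin'_apply, toLin'_apply, form_mulVec, hgc, smul_mulVec,
          dotProduct_smul, smul_eq_mul]
  rw [inndiagPSL_eq, splitClassCount_eq (by omega) (gaut K) (powMonoidHom m : Fˣ →* Fˣ).range (by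
    rw [comap_centralizer (by omega), hdet]), IsCyclic.index_powMonoidHom_range, Nat.card_units]
  rw [Nat.gcd_eq_left (Nat.dvd_gcd (Nat.gcd_dvd_left _ _) ((Nat.gcd_dvd_right _ _).trans ⟨2, by omega⟩)),
    Nat.gcd_comm]

theorem exists_isom_det_neg_one (h2 : (2 : F) ≠ 0) (hn : 0 < n) (K : GL (Fin n) F) (hK : (K : Mn)ᵀ = (K : Mn)) :
    ∃ g : GL (Fin n) F, (g : Mn)ᵀ * (K : Mn) * (g : Mn) = (K : Mn) ∧ GeneralLinearGroup.det g = -1 := by
  classical
  have hKd : (K : Mn).det ≠ 0 := (GeneralLinearGroup.det K).ne_zero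
  set i₀ : Fin n := ⟨0, hn⟩
  set D : Mn := diagonal (Function.update (fun _ => (1 : F)) i₀ (K : Mn).det) with hD
  have hDd : D.det = (K : Mn).det := by
    rw [hD, det_diagonal, Finset.prod_update_of_mem (Finset.mem_univ _), Finset.prod_const_one, mul_one]
  obtain ⟨P, hP⟩ := congr_of_disc h2 hK (diagonal_transpose _) hKd (hDd ▸ hKd) ⟨(K : Mn).det, by rw [hDd]⟩
  let s : Fin n → Fˣ := Function.update (fun _ => 1) i₀ (-1)
  let S : GL (Fin n) F := CfsgLib.KnownB.PSLAut.diagGL s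
  have hS : (S : Mn)ᵀ * D * (S : Mn) = D := by
    show (diagonal fun i => (s i : F))ᵀ * D * (diagonal fun i => (s i : F)) = D
    rw [diagonal_transpose, hD, diagonal_mul_diagonal, diagonal_mul_diagonal]
    congr 1
    funext i
    rcases eq_or_ne i i₀ with rfl | hi <;> simp [s, *]
  refine ⟨P * S * P⁻¹, ?_, ?_⟩
  · rw [Units.val_mul, Units.val_mul, transpose_mul, transpose_mul]
    calc _ = ((P⁻¹ : GL (Fin n) F) : Mn)ᵀ * ((S : Mn)ᵀ * ((P : Mn)ᵀ * (K : Mn) * (P : Mn)) * (S : Mn)) *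
          ((P⁻¹ : GL (Fin n) F) : Mn) := by simp only [mul_assoc]
      _ = ((P⁻¹ : GL (Fin n) F) : Mn)ᵀ * ((P : Mn)ᵀ * (K : Mn) * (P : Mn)) * ((P⁻¹ : GL (Fin n) F) : Mn) := by
          rw [hP, hS]
      _ = ((P : Mn) * ((P⁻¹ : GL (Fin n) F) : Mn))ᵀ * (K : Mn) * ((P : Mn) * ((P⁻¹ : GL (Fin n) F) : Mn)) := by
          rw [transpose_mul]; simp only [mul_assoc]
      _ = (K : Mn) := by simp
  · rw [map_mul, map_mul, mul_right_comm, ← map_mul, mul_inv_cancel, map_one, one_mul]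
    refine Units.ext ?_
    show (diagonal fun i => (s i : F)).det = _
    rw [det_diagonal, ← Units.coe_prod, Finset.prod_update_of_mem (Finset.mem_univ _), Finset.prod_const_one, mul_one]

theorem exists_det_neg_one (h2 : (2 : F) ≠ 0) (hn : 0 < n) (K : GL (Fin n) F) (hK : (K : Mn)ᵀ = (K : Mn)) :
    (-1 : Fˣ) ∈ (simJ (K : Mn)).map GeneralLinearGroup.det := by
  obtain ⟨g, hg, hd⟩ := exists_isom_det_neg_one h2 hn K hK
  exact ⟨g, mem_simJ.2 ⟨1, by rw [Units.val_one, one_smul, hg]⟩, hd⟩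

/-- The symmetric case of the splitting. -/
theorem split_sym (hn : 3 ≤ n) {m : ℕ} (hnm : n = 2 * m) (h2 : (2 : F) ≠ 0) (K : GL (Fin n) F)
    (hK : (K : Mn)ᵀ = (K : Mn)) :
    Cfsg.splitClassCount (Cfsg.inndiagPSL n F) (Cfsg.Inn (Matrix.ProjectiveSpecialLinearGroup (Fin n) F)) (gaut K) =
      Nat.gcd n (Nat.card F - 1) / 2 := by
  classical
  haveI := Fintype.ofFinite F
  have hchar : ringChar F ≠ 2 := fun h => h2 (by
    haveI := ringChar.of_eq h
    exact CharTwo.two_eq_zero)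
  obtain ⟨M, hM⟩ : ∃ M, Nat.card F - 1 = 2 * M := by
    have ho := FiniteField.odd_card_of_char_ne_two hchar
    rw [Nat.card_eq_fintype_card]
    exact ⟨Fintype.card F / 2, by omega⟩
  have hM' : Fintype.card F / 2 = M := by
    have ho := FiniteField.odd_card_of_char_ne_two hchar
    rw [Nat.card_eq_fintype_card] at hM
    omega
  set g := Nat.gcd m M with hg
  have hgcd : Nat.gcd (Nat.card F - 1) n = 2 * g := by rw [hM, hnm, Nat.gcd_mul_left, hg, Nat.gcd_comm]
  have hN0 : 0 < Nat.card F - 1 := by have := Finite.one_lt_card (α := F); omega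
  have hg0 : 0 < g := Nat.gcd_pos_of_pos_left _ (by omega)
  set L := (powMonoidHom g : Fˣ →* Fˣ).range with hL
  have hLi : L.index = g := by
    rw [hL, IsCyclic.index_powMonoidHom_range, Nat.card_units, hM]
    exact Nat.gcd_eq_right ((Nat.gcd_dvd_right m M).trans (dvd_mul_left _ _))
  obtain ⟨ν, hν⟩ := exists_nonsquare_unit (F := F) h2
  have hνM : ν ^ M = -1 := by
    refine Units.ext ?_
    have h := (FiniteField.pow_dichotomy hchar ν.ne_zero).resolve_left
      fun h => hν ((FiniteField.isSquare_iff hchar ν.ne_zero).2 h)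
    rw [hM'] at h
    rw [Units.val_pow_eq_pow_val, h, Units.val_neg, Units.val_one]
  obtain ⟨k, hk⟩ : g ∣ M := Nat.gcd_dvd_right m M
  obtain ⟨k', hk'⟩ : g ∣ m := Nat.gcd_dvd_left m M
  have hneg : (-1 : Fˣ) ∈ L := ⟨ν ^ k, by rw [powMonoidHom_apply, ← pow_mul, ← hνM, hk, mul_comm]⟩
  have hmL : ∀ x : Fˣ, x ^ m ∈ L := fun x => ⟨x ^ k', by rw [powMonoidHom_apply, ← pow_mul, hk', mul_comm]⟩
  have hRL : RR ≤ L := by
    rintro _ ⟨x, rfl⟩
    rw [powMonoidHom_apply, hnm, two_mul, pow_add]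
    exact L.mul_mem (hmL x) (hmL x)
  set T := (simJ (K : Mn)).map GeneralLinearGroup.det with hT
  have hTL : T ≤ L := by
    rintro _ ⟨h, hh, rfl⟩
    obtain ⟨c, hc⟩ := mem_simJ.1 hh
    have h1 : GeneralLinearGroup.det h ^ 2 = (c ^ m) ^ 2 := by
      rw [det_sim_sq hc, ← pow_mul]; congr 1; omega
    have h3 : ((GeneralLinearGroup.det h : Fˣ) : F) * (GeneralLinearGroup.det h : Fˣ) =
        ((c ^ m : Fˣ) : F) * ((c ^ m : Fˣ) : F) := by
      rw [← Units.val_mul, ← Units.val_mul, ← pow_two, ← pow_two, h1]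
    rcases mul_self_eq_mul_self_iff.1 h3 with h4 | h4
    · rw [Units.ext h4]; exact hmL c
    · rw [show GeneralLinearGroup.det h = -1 * c ^ m from Units.ext (by rw [h4]; simp)]
      exact L.mul_mem hneg (hmL c)
  have hnT : (-1 : Fˣ) ∈ T := exists_det_neg_one h2 (by omega) K hK
  have hνT : ν ^ m ∈ T ⊔ RR := by
    have hKd : (K : Mn).det ≠ 0 := (GeneralLinearGroup.det K).ne_zero
    obtain ⟨h, hh, hhc⟩ := exists_sim (Γ := (K : Mn)) (c := ν) (congr_of_disc h2 hK (by rw [transpose_smul, hK]) hKd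
      (by rw [det_smul]; exact mul_ne_zero (pow_ne_zero _ ν.ne_zero) hKd)
      ⟨(ν : F) ^ m * (K : Mn).det, by rw [det_smul, Fintype.card_fin]; subst hnm; ring⟩)
    have h1 : GeneralLinearGroup.det h ^ 2 = (ν ^ m) ^ 2 := by
      rw [det_sim_sq hhc, ← pow_mul]; congr 1; omega
    have h3 : ((GeneralLinearGroup.det h : Fˣ) : F) * (GeneralLinearGroup.det h : Fˣ) =
        ((ν ^ m : Fˣ) : F) * ((ν ^ m : Fˣ) : F) := by
      rw [← Units.val_mul, ← Units.val_mul, ← pow_two, ← pow_two, h1]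
    rcases mul_self_eq_mul_self_iff.1 h3 with h4 | h4
    · rw [← Units.ext h4]; exact Subgroup.mem_sup_left ⟨h, hh, rfl⟩
    · rw [show ν ^ m = -1 * GeneralLinearGroup.det h from Units.ext (by rw [Units.val_mul, h4]; simp)]
      exact Subgroup.mem_sup_left (T.mul_mem hnT ⟨h, hh, rfl⟩)
  have hnot : ¬ ((-1 : Fˣ) ∈ RR ∧ ν ^ m ∈ RR) := by
    rintro ⟨⟨y, hy⟩, ⟨w, hw⟩⟩
    rw [powMonoidHom_apply] at hy hw
    rw [hnm] at hy hw
    set e := ν * (w ^ 2)⁻¹ with he
    have hem : e ^ m = 1 := by rw [he, mul_pow, inv_pow, ← pow_mul, hw, mul_inv_cancel]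
    have hw2 : ((w ^ 2) ^ M : Fˣ) = 1 := by rw [← pow_mul, ← hM, ← Nat.card_units, pow_card_eq_one']
    have heM : e ^ M = -1 := by rw [he, mul_pow, inv_pow, hw2, inv_one, mul_one, hνM]
    have hne : (-1 : Fˣ) ≠ 1 := fun h => h2 (by
      have := congrArg Units.val h
      simp only [Units.val_neg, Units.val_one] at this
      linear_combination (-1 : F) * this)
    set o := orderOf e with ho
    obtain ⟨i, hi⟩ : o ∣ m := orderOf_dvd_of_pow_eq_one hem
    obtain ⟨j, hj⟩ : o ∣ 2 * M := orderOf_dvd_of_pow_eq_one (by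
      rw [mul_comm, pow_mul, heM, neg_one_sq])
    have hjo : Odd j := by
      by_contra hj'
      obtain ⟨j', rfl⟩ := Nat.not_odd_iff_even.1 hj'
      exact hne (heM ▸ orderOf_dvd_iff_pow_eq_one.1 ⟨j', by rw [← ho]; linarith⟩)
    refine hne ?_
    calc (-1 : Fˣ) = (-1) ^ j := hjo.neg_one_pow.symm
      _ = y ^ (2 * m * j) := by rw [← hy, ← pow_mul]
      _ = (y ^ (2 * M)) ^ (2 * i) := by
          rw [← pow_mul]
          congr 1
          rw [hi, hj]
          ring
      _ = 1 := by rw [← hM, ← Nat.card_units, pow_card_eq_one', one_pow]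
  have hRi : (RR).index = 2 * g := by rw [index_RR, hgcd]
  have hLT : L ≤ T ⊔ RR := by
    have hmul := Subgroup.relIndex_mul_relIndex RR (T ⊔ RR) L le_sup_right (sup_le hTL hRL)
    have h2' : (RR).relIndex L = 2 := by
      have h5 := Subgroup.relIndex_mul_index hRL
      rw [hLi, hRi] at h5
      exact Nat.eq_of_mul_eq_mul_right hg0 h5
    rw [h2'] at hmul
    have h1 : (RR).relIndex (T ⊔ RR) ≠ 1 := fun h => by
      rw [Subgroup.relIndex_eq_one] at h
      exact hnot ⟨h (Subgroup.mem_sup_left hnT), h hνT⟩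
    rw [← Subgroup.relIndex_eq_one]
    rcases (Nat.dvd_prime Nat.prime_two).1 ⟨_, hmul.symm⟩ with h | h
    · exact absurd h h1
    · rw [h] at hmul; omega
  rw [inndiagPSL_eq, splitClassCount_eq (by omega) (gaut K) L (by
    rw [comap_centralizer (by omega), ← hT]
    exact le_antisymm (sup_le (le_trans hTL le_sup_left) le_sup_right) (sup_le hLT le_sup_right)), hLi, hgcd,
    Nat.gcd_comm n, hgcd, Nat.mul_div_cancel_left _ (by norm_num : 0 < 2)]
  exact Nat.gcd_eq_left (dvd_mul_left _ _)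

/-- A symplectic centraliser only occurs for alternating forms. -/
theorem not_pgsp (hn : 3 ≤ n) {m : ℕ} (hm : 2 ≤ m) (hnm : n = 2 * m) (h2 : (2 : F) ≠ 0) (K : GL (Fin n) F)
    (hK : (K : Mn)ᵀ = (K : Mn)) :
    ¬ Nonempty (↥(CC (gaut K)) ≃* Cfsg.PGSp m F) := by
  classical
  haveI := Fintype.ofFinite F
  rintro ⟨i⟩
  set q := Fintype.card F with hq
  have hq3 : 3 ≤ q := by
    obtain ⟨ν, hν⟩ := exists_nonsquare_unit (F := F) h2
    have h1 : (({0, 1, (ν : F)} : Finset F)).card = 3 := by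
      have : (ν : F) ≠ 1 := fun h => hν (h ▸ IsSquare.one)
      simp [this.symm, ν.ne_zero.symm]
    rw [hq, ← h1]
    exact Finset.card_le_univ _
  have hsc : ∀ {ι : Type} [Fintype ι] [DecidableEq ι] [Nonempty ι] (Γ : Matrix ι ι F),
      Nat.card (Cfsg.projQuot (simJ Γ)) * (q - 1) = Nat.card (simJ Γ) := by
    intro ι _ _ _ Γ
    have hs : Cfsg.Geo.scalars ι F ≤ simJ Γ := by
      intro x hx
      obtain ⟨d, hd⟩ := (Cfsg.Geo.mem_scalars_iff x).1 hx
      exact mem_simJ.2 ⟨d * d, by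
        rw [hd, transpose_smul, transpose_one, Matrix.smul_mul, one_mul, Matrix.smul_mul, Matrix.mul_smul, mul_one,
          smul_smul, Units.val_mul]⟩
    have hinj : Function.Injective (Units.map (Matrix.scalar ι : F →+* Matrix ι ι F).toMonoidHom) :=
      Units.map_injective fun a b h => Matrix.scalar_inj.1 h
    rw [Subgroup.card_eq_card_quotient_mul_card_subgroup ((Cfsg.Geo.scalars ι F).subgroupOf (simJ Γ)),
      Nat.card_congr (Subgroup.subgroupOfEquivOfLe hs).toEquiv]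
    congr 1
    rw [Cfsg.Geo.scalars, ← Nat.card_congr (MonoidHom.ofInjective hinj).toEquiv, Nat.card_units,
      Nat.card_eq_fintype_card]
  have hup : ∀ {ι : Type} [Fintype ι] [DecidableEq ι] {Γ : Matrix ι ι F}, Γ ≠ 0 →
      Nat.card (simJ Γ) ≤ Nat.card (isoJ Γ) * (q - 1) := by
    intro ι _ _ Γ hΓ
    haveI : Finite (GL ι F) := by
      haveI : Finite (Matrix ι ι F) := inferInstanceAs (Finite (ι → ι → F))
      infer_instance
    choose μ hμ using fun g : simJ Γ => mem_simJ.1 g.2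
    have huniq : ∀ (g : simJ Γ) (c : Fˣ),
        (g.1 : Matrix ι ι F)ᵀ * Γ * (g.1 : Matrix ι ι F) = (c : F) • Γ → μ g = c := fun g c hc => by
      have h : ((μ g : F) - c) • Γ = 0 := by rw [sub_smul, ← hμ g, ← hc, sub_self]
      exact Units.ext (sub_eq_zero.1 ((smul_eq_zero.1 h).resolve_right hΓ))
    let f : ↥(simJ Γ) →* Fˣ := MonoidHom.mk' μ fun a b => huniq _ _ (by
      show ((a.1 * b.1 : GL ι F) : Matrix ι ι F)ᵀ * Γ * ((a.1 * b.1 : GL ι F) : Matrix ι ι F) = _
      rw [Units.val_mul, transpose_mul, show (b.1 : Matrix ι ι F)ᵀ * (a.1 : Matrix ι ι F)ᵀ * Γ *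
        ((a.1 : Matrix ι ι F) * (b.1 : Matrix ι ι F)) = (b.1 : Matrix ι ι F)ᵀ *
        ((a.1 : Matrix ι ι F)ᵀ * Γ * (a.1 : Matrix ι ι F)) * (b.1 : Matrix ι ι F) by simp only [mul_assoc], hμ a,
        Matrix.mul_smul, Matrix.smul_mul, hμ b, smul_smul, Units.val_mul])
    rw [Subgroup.card_eq_card_quotient_mul_card_subgroup f.ker,
      Nat.card_congr (QuotientGroup.quotientKerEquivRange f).toEquiv, mul_comm]
    refine Nat.mul_le_mul ?_ ?_
    · refine Nat.card_le_card_of_injective (fun g => (⟨g.1.1, ?_⟩ : ↥(isoJ Γ))) fun a b h => ?_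
      · rw [mem_isoJ]
        have := hμ g.1
        rw [show μ g.1 = 1 from g.2, Units.val_one, one_smul] at this
        exact this
      · have := congrArg Subtype.val h
        exact Subtype.ext (Subtype.ext this)
    · exact (Subgroup.card_le_card_group _).trans (le_of_eq (by rw [Nat.card_units, Nat.card_eq_fintype_card]))
  have hlow : Nat.card (Matrix.symplecticGroup (Fin m) F) * (q - 1) ≤ Nat.card (simJ (stdJ m F)) := by
    haveI : Finite (GL (Fin m ⊕ Fin m) F) := by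
      haveI : Finite (Matrix (Fin m ⊕ Fin m) (Fin m ⊕ Fin m) F) :=
        inferInstanceAs (Finite (Fin m ⊕ Fin m → Fin m ⊕ Fin m → F))
      infer_instance
    rw [show q - 1 = Nat.card Fˣ by rw [Nat.card_units, Nat.card_eq_fintype_card], ← Nat.card_prod]
    let D : Fˣ → GL (Fin m ⊕ Fin m) F := fun c => GeneralLinearGroup.mkOfDetNeZero
      (diagonal (Sum.elim (fun _ => (c : F)) fun _ => 1)) (by simp [det_diagonal])
    have hD : ∀ c, ((D c : GL (Fin m ⊕ Fin m) F) : Matrix _ _ F)ᵀ * stdJ m F * (D c : Matrix _ _ F) =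
        (c : F) • stdJ m F := fun c => by
      show (diagonal _)ᵀ * stdJ m F * diagonal _ = _
      rw [diagonal_transpose]
      ext i j
      rw [Matrix.mul_diagonal, Matrix.diagonal_mul, Matrix.smul_apply]
      rcases i with i | i <;> rcases j with j | j <;> simp [Matrix.J, Matrix.one_apply]
    have hf : ∀ (A : Matrix.symplecticGroup (Fin m) F) (c : Fˣ),
        (GeneralLinearGroup.mkOfDetNeZero A.1 (SymplecticGroup.symplectic_det A.2).ne_zero * D c : GL _ F) ∈
          simJ (stdJ m F) := fun A c => mem_simJ.2 ⟨c, by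
      rw [Units.val_mul, transpose_mul]
      calc _ = (D c : Matrix _ _ F)ᵀ * (A.1ᵀ * stdJ m F * A.1) * (D c : Matrix _ _ F) := by
            simp only [mul_assoc]; rfl
        _ = _ := by rw [SymplecticGroup.mem_iff'.1 A.2, hD]⟩
    refine Nat.card_le_card_of_injective (fun x => (⟨_, hf x.1 x.2⟩ : ↥(simJ (stdJ m F)))) fun x y h => ?_
    have h1 := congrArg (fun z : ↥(simJ (stdJ m F)) => ((z.1 : GL _ F) : Matrix (Fin m ⊕ Fin m) (Fin m ⊕ Fin m) F)) h
    simp only [Units.val_mul] at h1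
    have h2' : ∀ (A : Matrix.symplecticGroup (Fin m) F) (c : Fˣ),
        (A.1 * (D c : Matrix (Fin m ⊕ Fin m) (Fin m ⊕ Fin m) F))ᵀ * stdJ m F *
          (A.1 * (D c : Matrix (Fin m ⊕ Fin m) (Fin m ⊕ Fin m) F)) = (c : F) • stdJ m F := fun A c => by
      rw [transpose_mul]
      calc _ = (D c : Matrix _ _ F)ᵀ * (A.1ᵀ * stdJ m F * A.1) * (D c : Matrix _ _ F) := by simp only [mul_assoc]
        _ = _ := by rw [SymplecticGroup.mem_iff'.1 A.2, hD]
    have hc : x.2 = y.2 := by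
      have h3 := h2' x.1 x.2
      rw [show x.1.1 * (D x.2 : Matrix _ _ F) = y.1.1 * (D y.2 : Matrix _ _ F) from h1, h2' y.1 y.2] at h3
      have h4 : ((y.2 : F) - x.2) • stdJ m F = 0 := by rw [sub_smul, h3, sub_self]
      refine (Units.ext (sub_eq_zero.1 ((smul_eq_zero.1 h4).resolve_right fun h0 => ?_))).symm
      have := congrFun (congrFun h0 (Sum.inr ⟨0, by omega⟩)) (Sum.inl ⟨0, by omega⟩)
      simp [Matrix.J] at this
    refine Prod.ext (Subtype.ext ?_) hc
    rw [hc] at h1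
    exact (D y.2).isUnit.mul_left_injective h1
  have hisom : ∀ {ι : Type} [Fintype ι] [DecidableEq ι] (M : Matrix ι ι F) {Q : (ι → F) → F},
      ⇑(matQuad M) = Q → Nat.card (isoJ (M + Mᵀ)) ≤ Nat.card (Cfsg.isometryGroup F Q) := by
    intro ι _ _ M Q hQ
    haveI : Finite (GL ι F) := by
      haveI : Finite (Matrix ι ι F) := inferInstanceAs (Finite (ι → ι → F))
      infer_instance
    subst hQ
    refine Subgroup.card_le_of_le fun g hg => fun u _ => ?_
    show matQuad M ((g : Matrix ι ι F) *ᵥ u) = matQuad M u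
    refine mul_left_cancel₀ h2 ?_
    rw [← polar_self' (matQuad M), ← polar_self' (matQuad M), polar_matQuad, polar_matQuad, form_mulVec,
      mem_isoJ.1 hg]
  obtain ⟨a, b, hab⟩ := exists_aniso (F := F) h2
  haveI : Nonempty (Fin m ⊕ Fin m) := ⟨Sum.inl ⟨0, by omega⟩⟩
  let e : Fin m ⊕ Fin m ≃ Fin n := Fintype.equivFinOfCardEq (by simp; omega)
  let e' : (Fin (m - 1) ⊕ Fin (m - 1)) ⊕ Fin 2 ≃ Fin n := Fintype.equivFinOfCardEq (by simp; omega)
  obtain ⟨-, hS⟩ := even_odd_cases h2 hm hnm hab e e' K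
  have hSp := Cfsg.Agent.S0245.result hq.symm m
  have hbig : ∀ (ι : Type) [Fintype ι] [DecidableEq ι] [Nonempty ι] (M : Matrix ι ι F) (Q : (ι → F) → F) (t : ℕ),
      ⇑(matQuad M) = Q → (M + Mᵀ).det ≠ 0 → t ≤ q ^ m + 1 →
      Nat.card (Cfsg.isometryGroup F Q) = 2 * q ^ (m * (m - 1)) * t * ∏ j ∈ Finset.range (m - 1), (q ^ (2 * (j + 1)) - 1) →
      Nonempty (↥(CC (gaut K)) ≃* Cfsg.projQuot (simJ (M + Mᵀ))) → False := by
    intro ι _ _ _ M Q t hQ hd ht hc ⟨j⟩
    have hne : M + Mᵀ ≠ 0 := fun h => hd (by rw [h]; exact Matrix.det_zero)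
    have hlt : Nat.card (Cfsg.projQuot (simJ (stdJ m F))) = Nat.card (Cfsg.projQuot (simJ (M + Mᵀ))) :=
      Nat.card_congr ((show Cfsg.PGSp m F ≃* _ from (i.symm.trans j)).toEquiv)
    have h1 : Nat.card (Matrix.symplecticGroup (Fin m) F) * (q - 1) ≤ Nat.card (isoJ (M + Mᵀ)) * (q - 1) := by
      refine hlow.trans ?_
      rw [← hsc (stdJ m F), hlt, hsc]
      exact hup hne
    have h3 := (Nat.le_of_mul_le_mul_right h1 (by omega)).trans (hisom M hQ)
    rw [hSp, hc] at h3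
    obtain ⟨k, rfl⟩ : ∃ k, m = k + 1 := ⟨m - 1, by omega⟩
    rw [Finset.prod_range_succ, Nat.add_sub_cancel] at h3
    set P := ∏ j ∈ Finset.range k, (q ^ (2 * (j + 1)) - 1)
    have hP : 0 < P := Finset.prod_pos fun j _ => by
      have : 1 < q ^ (2 * (j + 1)) := Nat.one_lt_pow (by omega) (by omega)
      omega
    rw [show (k + 1) ^ 2 = (k + 1) * k + (k + 1) by ring, pow_add] at h3
    set A := q ^ ((k + 1) * k)
    have hA : 0 < A := pow_pos (by omega) _
    set x := q ^ (k + 1) with hx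
    have hx3 : 3 ≤ x := le_trans hq3 (Nat.le_self_pow (by omega) q)
    rw [show q ^ (2 * (k + 1)) = x * x by rw [hx, ← pow_add, two_mul]] at h3
    have h4 : A * P * (x * (x * x - 1)) ≤ A * P * (2 * t) := by
      calc A * P * (x * (x * x - 1)) = A * x * (P * (x * x - 1)) := by ring
        _ ≤ _ := h3
        _ = A * P * (2 * t) := by ring
    have h5 := Nat.le_of_mul_le_mul_left h4 (Nat.mul_pos hA hP)
    have h6 : 3 * (x * x - 1) ≤ x * (x * x - 1) := Nat.mul_le_mul_right _ hx3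
    have h7 : x + 1 < x * x - 1 := by
      have : 3 * x ≤ x * x := Nat.mul_le_mul_right _ hx3
      omega
    omega
  by_cases hs : IsSquare ((plusG m F).det * (K : Mn).det)
  · refine hbig (Fin m ⊕ Fin m) (plusMat m F) _ (q ^ m - 1) (coe_matQuad_plus m) (det_plusG_ne_zero m) (by omega)
      (Cfsg.Agent.S0287.result hq.symm m (by omega)) ?_
    obtain ⟨c⟩ := cent_of_conj (by omega) (conj_symm ((hS hK).1 hs))
    obtain ⟨f⟩ := cent_std (by omega) (plusG m F) e (det_plusG_ne_zero m)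
    exact ⟨c.trans f⟩
  · refine hbig _ (minusMat (m - 1) F a b) _ (q ^ m + 1) (coe_matQuad_minus (m - 1) a b)
      (det_minusG_ne_zero m hab) le_rfl (Cfsg.Agent.S0288.result hq.symm m (by omega) a b hab) ?_
    obtain ⟨c⟩ := cent_of_conj (by omega) (conj_symm ((hS hK).2 hs))
    obtain ⟨f⟩ := cent_std (by omega) (minusG m F a b) e' (det_minusG_ne_zero m hab)
    exact ⟨c.trans f⟩

end CfsgLib.Geometry.GraphPSL
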